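import Mathlib
import Cfsg.Prelude.Def_E6

/-!
# S1084, package A3 (generic part): a verified checker for "a sparse unipotent matrix preserves a cubic form"

A cubic form is given by a list of signed monomials `((a, b, c), κ)`; a sparse matrix `E` by a list of entries
`(target, source, sign)`. `e6cb_invCheck tri ent = true` implies `f (v + t • E v) = f v` for all `v, t`
(`e6cb_poly_shift_of_check`). The check: the targets are distinct; no monomial has two positions that are targets; the
first-order terms (one signed monomial per (monomial, target position)) have coefficients `±1` and the positive ones are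
a permutation of the negative ones after sorting the three indices of each monomial.
-/

set_option autoImplicit false

namespace Cfsg.Agent.E6C

open Cfsg.Lie

/-- A monomial `x_a x_b x_c`. -/
abbrev e6cb_Mon : Type := I27 × I27 × I27

section generic

variable {F : Type*} [CommRing F]

/-- The value of a monomial. -/
def e6cb_ev (v : I27 → F) (m : e6cb_Mon) : F := v m.1 * v m.2.1 * v m.2.2

/-- The value of a list of signed monomials. -/
def e6cb_poly (L : List (e6cb_Mon × ℤ)) (v : I27 → F) : F :=
  (L.map fun T => (T.2 : F) * e6cb_ev v T.1).sum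

/-- The entry of the sparse matrix with target `j` (the first one). -/
def e6cb_hit (ent : List (I27 × I27 × ℤ)) (j : I27) : Option (I27 × ℤ) :=
  (ent.find? fun e => e.1 = j).map fun e => e.2

/-- `E v` for the sparse matrix `E` (at most one entry per row is used). -/
def e6cb_delta (ent : List (I27 × I27 × ℤ)) (v : I27 → F) : I27 → F := fun j =>
  match e6cb_hit ent j with
  | some (s, ε) => (ε : F) * v s
  | none => 0

/-- The first-order terms of a signed monomial under `v ↦ v + t E v`. -/
def e6cb_fo (ent : List (I27 × I27 × ℤ)) (T : e6cb_Mon × ℤ) : List (e6cb_Mon × ℤ) :=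
  ((e6cb_hit ent T.1.1).map fun h => ((h.1, T.1.2.1, T.1.2.2), T.2 * h.2)).toList ++
  ((e6cb_hit ent T.1.2.1).map fun h => ((T.1.1, h.1, T.1.2.2), T.2 * h.2)).toList ++
  ((e6cb_hit ent T.1.2.2).map fun h => ((T.1.1, T.1.2.1, h.1), T.2 * h.2)).toList

/-- At most one of the three positions of the monomial is a target. -/
def e6cb_oneHit (ent : List (I27 × I27 × ℤ)) (T : e6cb_Mon × ℤ) : Bool :=
  (((e6cb_hit ent T.1.1).isSome && (e6cb_hit ent T.1.2.1).isSome) ||
   ((e6cb_hit ent T.1.1).isSome && (e6cb_hit ent T.1.2.2).isSome) ||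
   ((e6cb_hit ent T.1.2.1).isSome && (e6cb_hit ent T.1.2.2).isSome)) == false

theorem e6cb_poly_nil (v : I27 → F) : e6cb_poly [] v = 0 := rfl

theorem e6cb_poly_cons (T : e6cb_Mon × ℤ) (L : List (e6cb_Mon × ℤ)) (v : I27 → F) :
    e6cb_poly (T :: L) v = (T.2 : F) * e6cb_ev v T.1 + e6cb_poly L v := by
  simp [e6cb_poly]

theorem e6cb_poly_append (L L' : List (e6cb_Mon × ℤ)) (v : I27 → F) :
    e6cb_poly (L ++ L') v = e6cb_poly L v + e6cb_poly L' v := by
  simp [e6cb_poly]

/-- One monomial: exact first-order expansion when at most one position is a target. -/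
theorem e6cb_term_shift (ent : List (I27 × I27 × ℤ)) (T : e6cb_Mon × ℤ) (h1 : e6cb_oneHit ent T = true)
    (v : I27 → F) (t : F) :
    (T.2 : F) * e6cb_ev (v + t • e6cb_delta ent v) T.1 =
      (T.2 : F) * e6cb_ev v T.1 + t * e6cb_poly (e6cb_fo ent T) v := by
  obtain ⟨⟨a, b, c⟩, κ⟩ := T
  simp only [e6cb_oneHit] at h1
  simp only [e6cb_ev, e6cb_fo, Pi.add_apply, Pi.smul_apply, smul_eq_mul, e6cb_delta]
  rcases ha : e6cb_hit ent a with _ | ⟨sa, εa⟩ <;> rcases hb : e6cb_hit ent b with _ | ⟨sb, εb⟩ <;>
    rcases hc : e6cb_hit ent c with _ | ⟨sc, εc⟩ <;> simp [ha, hb, hc] at h1 ⊢ <;>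
    simp [e6cb_poly, e6cb_ev] <;> ring

/-- Sum over the monomials. -/
theorem e6cb_poly_shift (ent : List (I27 × I27 × ℤ)) (tri : List (e6cb_Mon × ℤ))
    (h1 : tri.all (e6cb_oneHit ent) = true) (v : I27 → F) (t : F) :
    e6cb_poly tri (v + t • e6cb_delta ent v) =
      e6cb_poly tri v + t * e6cb_poly (tri.flatMap (e6cb_fo ent)) v := by
  induction tri with
  | nil => simp [e6cb_poly]
  | cons T L ih =>
    rw [List.all_cons, Bool.and_eq_true] at h1
    rw [e6cb_poly_cons, e6cb_poly_cons, List.flatMap_cons, e6cb_poly_append, ih h1.2,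
      e6cb_term_shift ent T h1.1]
    ring

/-- Numerical key of an index, for sorting. -/
def e6cb_key (x : I27) : ℕ := 9 * x.1.val + 3 * x.2.1.val + x.2.2.val

/-- Sort the three indices of a monomial. -/
def e6cb_norm (m : e6cb_Mon) : e6cb_Mon :=
  let a := m.1; let b := m.2.1; let c := m.2.2
  if e6cb_key a ≤ e6cb_key b then
    if e6cb_key b ≤ e6cb_key c then (a, b, c)
    else if e6cb_key a ≤ e6cb_key c then (a, c, b) else (c, a, b)
  else
    if e6cb_key a ≤ e6cb_key c then (b, a, c)
    else if e6cb_key b ≤ e6cb_key c then (b, c, a) else (c, b, a)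

theorem e6cb_ev_norm (v : I27 → F) (m : e6cb_Mon) : e6cb_ev v (e6cb_norm m) = e6cb_ev v m := by
  obtain ⟨a, b, c⟩ := m
  simp only [e6cb_norm, e6cb_ev]
  split_ifs <;> ring

/-- The signed monomials with coefficient `κ`, sorted. -/
def e6cb_part (κ : ℤ) (M : List (e6cb_Mon × ℤ)) : List e6cb_Mon :=
  (M.filter fun T => T.2 = κ).map fun T => e6cb_norm T.1

/-- All coefficients are `±1` and the positive part is a permutation of the negative part. -/
def e6cb_cancel (M : List (e6cb_Mon × ℤ)) : Bool :=
  (M.all fun T => T.2 = 1 || T.2 = -1) && (e6cb_part 1 M).isPerm (e6cb_part (-1) M)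

theorem e6cb_poly_eq_parts (M : List (e6cb_Mon × ℤ)) (hM : (M.all fun T => T.2 = 1 || T.2 = -1) = true)
    (v : I27 → F) :
    e6cb_poly M v = ((e6cb_part 1 M).map (e6cb_ev v)).sum - ((e6cb_part (-1) M).map (e6cb_ev v)).sum := by
  induction M with
  | nil => simp [e6cb_poly, e6cb_part]
  | cons T L ih =>
    rw [List.all_cons, Bool.and_eq_true] at hM
    rw [e6cb_poly_cons, ih hM.2]
    obtain ⟨m, κ⟩ := T
    have hκ : κ = 1 ∨ κ = -1 := by simpa using hM.1
    rcases hκ with rfl | rfl
    · simp [e6cb_part, List.filter_cons, e6cb_ev_norm]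
      ring
    · simp [e6cb_part, List.filter_cons, e6cb_ev_norm]
      ring

theorem e6cb_poly_eq_zero_of_cancel (M : List (e6cb_Mon × ℤ)) (hM : e6cb_cancel M = true) (v : I27 → F) :
    e6cb_poly M v = 0 := by
  rw [e6cb_cancel, Bool.and_eq_true] at hM
  rw [e6cb_poly_eq_parts M hM.1 v]
  have hp : (e6cb_part 1 M).Perm (e6cb_part (-1) M) := List.isPerm_iff.mp hM.2
  rw [(hp.map (e6cb_ev v)).sum_eq, sub_self]

/-- The complete check. -/
def e6cb_invCheck (tri : List (e6cb_Mon × ℤ)) (ent : List (I27 × I27 × ℤ)) : Bool :=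
  tri.all (e6cb_oneHit ent) && e6cb_cancel (tri.flatMap (e6cb_fo ent))

/-- **Soundness of the check.** -/
theorem e6cb_poly_shift_of_check (tri : List (e6cb_Mon × ℤ)) (ent : List (I27 × I27 × ℤ))
    (h : e6cb_invCheck tri ent = true) (v : I27 → F) (t : F) :
    e6cb_poly tri (v + t • e6cb_delta ent v) = e6cb_poly tri v := by
  rw [e6cb_invCheck, Bool.and_eq_true] at h
  rw [e6cb_poly_shift ent tri h.1, e6cb_poly_eq_zero_of_cancel _ h.2, mul_zero, add_zero]

end generic

end Cfsg.Agent.E6C
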