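import Mathlib
import Cfsg.Prelude.Def_E6
import Cfsg.Agent.E6C.BCheck

/-!
# S1084, package B0: the form layer

`cubicT` as a list of 45 signed monomials, its first polar `e6cb_c1 x y` (= Σ_d ∂_d f(x) y_d), the partial derivatives
`e6cb_der d x` through the per-index tables `e6cb_at d`, the invariance `e6cb_c1_inv` of the first polar under the stabiliser
of `cubicT` as a FUNCTION (needs only three field elements; characteristic-free), and "singular ↦ singular".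
-/

set_option autoImplicit false

namespace Cfsg.Agent.E6C

open Cfsg.Lie

/-- The 45 signed monomials of `cubicT` (index `(k,i,j)`; each triple is increasing for `9k+3i+j`). -/
def e6cb_tri45 : List (e6cb_Mon × ℤ) := [
  (((0,0,0),(0,1,1),(0,2,2)),1), (((0,0,0),(0,1,2),(0,2,1)),-1), (((0,0,1),(0,1,0),(0,2,2)),-1),
  (((0,0,1),(0,1,2),(0,2,0)),1), (((0,0,2),(0,1,0),(0,2,1)),1), (((0,0,2),(0,1,1),(0,2,0)),-1),
  (((1,0,0),(1,1,1),(1,2,2)),1), (((1,0,0),(1,1,2),(1,2,1)),-1), (((1,0,1),(1,1,0),(1,2,2)),-1),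
  (((1,0,1),(1,1,2),(1,2,0)),1), (((1,0,2),(1,1,0),(1,2,1)),1), (((1,0,2),(1,1,1),(1,2,0)),-1),
  (((2,0,0),(2,1,1),(2,2,2)),1), (((2,0,0),(2,1,2),(2,2,1)),-1), (((2,0,1),(2,1,0),(2,2,2)),-1),
  (((2,0,1),(2,1,2),(2,2,0)),1), (((2,0,2),(2,1,0),(2,2,1)),1), (((2,0,2),(2,1,1),(2,2,0)),-1),
  (((0,0,0),(1,0,0),(2,0,0)),-1), (((0,0,0),(1,0,1),(2,1,0)),-1), (((0,0,0),(1,0,2),(2,2,0)),-1),
  (((0,0,1),(1,1,0),(2,0,0)),-1), (((0,0,1),(1,1,1),(2,1,0)),-1), (((0,0,1),(1,1,2),(2,2,0)),-1),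
  (((0,0,2),(1,2,0),(2,0,0)),-1), (((0,0,2),(1,2,1),(2,1,0)),-1), (((0,0,2),(1,2,2),(2,2,0)),-1),
  (((0,1,0),(1,0,0),(2,0,1)),-1), (((0,1,0),(1,0,1),(2,1,1)),-1), (((0,1,0),(1,0,2),(2,2,1)),-1),
  (((0,1,1),(1,1,0),(2,0,1)),-1), (((0,1,1),(1,1,1),(2,1,1)),-1), (((0,1,1),(1,1,2),(2,2,1)),-1),
  (((0,1,2),(1,2,0),(2,0,1)),-1), (((0,1,2),(1,2,1),(2,1,1)),-1), (((0,1,2),(1,2,2),(2,2,1)),-1),
  (((0,2,0),(1,0,0),(2,0,2)),-1), (((0,2,0),(1,0,1),(2,1,2)),-1), (((0,2,0),(1,0,2),(2,2,2)),-1),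
  (((0,2,1),(1,1,0),(2,0,2)),-1), (((0,2,1),(1,1,1),(2,1,2)),-1), (((0,2,1),(1,1,2),(2,2,2)),-1),
  (((0,2,2),(1,2,0),(2,0,2)),-1), (((0,2,2),(1,2,1),(2,1,2)),-1), (((0,2,2),(1,2,2),(2,2,2)),-1)]

section

variable {F : Type*} [CommRing F]

theorem e6cb_cubicT_eq (v : I27 → F) : cubicT v = e6cb_poly e6cb_tri45 v := by
  simp only [cubicT, mat3, Matrix.det_fin_three, Matrix.trace_fin_three, Matrix.mul_apply, Fin.sum_univ_three,
    Matrix.of_apply, e6cb_poly, e6cb_tri45, e6cb_ev, List.map, List.sum_cons, List.sum_nil]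
  push_cast
  ring

/-- First polar of a list of signed monomials: the coefficient of `t` in `f (x + t y)`. -/
def e6cb_poly1 (L : List (e6cb_Mon × ℤ)) (x y : I27 → F) : F :=
  (L.map fun T => (T.2 : F) * (y T.1.1 * x T.1.2.1 * x T.1.2.2 + x T.1.1 * y T.1.2.1 * x T.1.2.2 +
    x T.1.1 * x T.1.2.1 * y T.1.2.2)).sum

/-- The first polar of `cubicT`. -/
def e6cb_c1 (x y : I27 → F) : F := e6cb_poly1 e6cb_tri45 x y

/-- The pair `(a, b, κ)` of a signed monomial `κ x_a x_b x_d` through `d`. -/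
def e6cb_pick (d : I27) (T : e6cb_Mon × ℤ) : Option (I27 × I27 × ℤ) :=
  if T.1.1 = d then some (T.1.2.1, T.1.2.2, T.2)
  else if T.1.2.1 = d then some (T.1.1, T.1.2.2, T.2)
  else if T.1.2.2 = d then some (T.1.1, T.1.2.1, T.2) else none

/-- The five pairs `(a, b, κ)` with `κ x_a x_b x_d` a monomial of `cubicT`. -/
def e6cb_at (d : I27) : List (I27 × I27 × ℤ) := e6cb_tri45.filterMap (e6cb_pick d)

/-- The partial derivative `∂_d cubicT` at `x`. -/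
def e6cb_der (d : I27) (x : I27 → F) : F :=
  ((e6cb_at d).map fun p => (p.2.2 : F) * x p.1 * x p.2.1).sum

/-- Singular vectors: all partial derivatives vanish. -/
def e6cb_sing (x : I27 → F) : Prop := ∀ d, e6cb_der d x = 0

end

end Cfsg.Agent.E6C
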