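import Mathlib
import Cfsg.Prelude.Def_E6
import Cfsg.Agent.E6C.BForm

/-!
# S1084, package B0: theorems of the form layer
-/

set_option autoImplicit false

namespace Cfsg.Agent.E6C

open Cfsg.Lie
open scoped Matrix

section comm

variable {F : Type*} [CommRing F]

theorem e6cb_poly1_nil (x y : I27 → F) : e6cb_poly1 [] x y = 0 := rfl

theorem e6cb_poly1_cons (T : e6cb_Mon × ℤ) (L : List (e6cb_Mon × ℤ)) (x y : I27 → F) :
    e6cb_poly1 (T :: L) x y = (T.2 : F) * (y T.1.1 * x T.1.2.1 * x T.1.2.2 + x T.1.1 * y T.1.2.1 * x T.1.2.2 +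
      x T.1.1 * x T.1.2.1 * y T.1.2.2) + e6cb_poly1 L x y := by
  simp [e6cb_poly1]

/-- The expansion of `f (x + t y)` in powers of `t`. -/
theorem e6cb_poly_expand (L : List (e6cb_Mon × ℤ)) (x y : I27 → F) (t : F) :
    e6cb_poly L (x + t • y) =
      e6cb_poly L x + t * e6cb_poly1 L x y + t ^ 2 * e6cb_poly1 L y x + t ^ 3 * e6cb_poly L y := by
  induction L with
  | nil => simp [e6cb_poly, e6cb_poly1]
  | cons T L ih =>
    rw [e6cb_poly_cons, e6cb_poly_cons, e6cb_poly_cons, e6cb_poly1_cons, e6cb_poly1_cons, ih]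
    simp only [e6cb_ev, Pi.add_apply, Pi.smul_apply, smul_eq_mul]
    ring

theorem e6cb_poly1_add_right (L : List (e6cb_Mon × ℤ)) (x y z : I27 → F) :
    e6cb_poly1 L x (y + z) = e6cb_poly1 L x y + e6cb_poly1 L x z := by
  induction L with
  | nil => simp [e6cb_poly1]
  | cons T L ih =>
    rw [e6cb_poly1_cons, e6cb_poly1_cons, e6cb_poly1_cons, ih]
    simp only [Pi.add_apply]
    ring

theorem e6cb_poly1_smul_right (L : List (e6cb_Mon × ℤ)) (x y : I27 → F) (a : F) :
    e6cb_poly1 L x (a • y) = a * e6cb_poly1 L x y := by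
  induction L with
  | nil => simp [e6cb_poly1]
  | cons T L ih =>
    rw [e6cb_poly1_cons, e6cb_poly1_cons, ih]
    simp only [Pi.smul_apply, smul_eq_mul]
    ring

/-- The first polar as a linear map in the second variable. -/
def e6cb_poly1L (L : List (e6cb_Mon × ℤ)) (x : I27 → F) : (I27 → F) →ₗ[F] F where
  toFun := e6cb_poly1 L x
  map_add' := e6cb_poly1_add_right L x
  map_smul' a y := by simp [e6cb_poly1_smul_right]

/-- The three indices of each monomial of `cubicT` are distinct. -/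
theorem e6cb_tri45_distinct : ∀ T ∈ e6cb_tri45, T.1.1 ≠ T.1.2.1 ∧ T.1.1 ≠ T.1.2.2 ∧ T.1.2.1 ≠ T.1.2.2 := by
  decide

theorem e6cb_poly1_single (L : List (e6cb_Mon × ℤ))
    (hL : ∀ T ∈ L, T.1.1 ≠ T.1.2.1 ∧ T.1.1 ≠ T.1.2.2 ∧ T.1.2.1 ≠ T.1.2.2) (x : I27 → F) (d : I27) :
    e6cb_poly1 L x (Pi.single d 1) =
      ((L.filterMap (e6cb_pick d)).map fun p => (p.2.2 : F) * x p.1 * x p.2.1).sum := by
  induction L with
  | nil => simp [e6cb_poly1]
  | cons T L ih =>
    rw [e6cb_poly1_cons, ih (fun T' hT' => hL T' (List.mem_cons_of_mem _ hT'))]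
    obtain ⟨⟨a, b, c⟩, κ⟩ := T
    obtain ⟨hab, hac, hbc⟩ := hL ((a, b, c), κ) List.mem_cons_self
    simp only at hab hac hbc
    simp only [List.filterMap_cons, e6cb_pick, Pi.single_apply]
    by_cases h1 : a = d
    · subst h1
      have hb : ¬ b = a := fun h => hab h.symm
      have hc : ¬ c = a := fun h => hac h.symm
      simp [hb, hc]
      ring
    · by_cases h2 : b = d
      · subst h2
        have hc : ¬ c = b := fun h => hbc h.symm
        simp [h1, hc]
        ring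
      · by_cases h3 : c = d
        · subst h3
          simp [h1, h2]
          try ring
        · simp [h1, h2, h3]

theorem e6cb_c1_single (x : I27 → F) (d : I27) : e6cb_c1 x (Pi.single d 1) = e6cb_der d x :=
  e6cb_poly1_single e6cb_tri45 e6cb_tri45_distinct x d

theorem e6cb_c1_eq_sum (x y : I27 → F) : e6cb_c1 x y = ∑ d, e6cb_der d x * y d := by
  have h := LinearMap.pi_apply_eq_sum_univ (e6cb_poly1L e6cb_tri45 x) y
  change e6cb_c1 x y = _ at h
  rw [h]
  refine Finset.sum_congr rfl fun d _ => ?_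
  have h2 : (fun j => if d = j then (1 : F) else 0) = Pi.single d 1 := by
    funext j
    simp [Pi.single_apply, eq_comm]
  rw [h2]
  change y d • e6cb_c1 x (Pi.single d 1) = _
  rw [e6cb_c1_single, smul_eq_mul, mul_comm]

theorem e6cb_sing_iff (x : I27 → F) : e6cb_sing x ↔ ∀ y, e6cb_c1 x y = 0 := by
  constructor
  · intro h y
    rw [e6cb_c1_eq_sum]
    exact Finset.sum_eq_zero fun d _ => by rw [h d, zero_mul]
  · intro h d
    rw [← e6cb_c1_single]
    exact h _

end comm

section field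

variable {F : Type*} [Field F]

theorem e6cb_mem_E6univ_iff (g : GL I27 F) :
    g ∈ E6univ F ↔ ∀ v, cubicT ((g : Matrix I27 I27 F) *ᵥ v) = cubicT v := Iff.rfl

/-- **(E1)** The first polar is invariant under the stabiliser of `cubicT` (as a function), over a field with at
least three elements. -/
theorem e6cb_c1_inv [Fintype F] (hF : 3 ≤ Fintype.card F) (g : GL I27 F) (hg : g ∈ E6univ F) (x y : I27 → F) :
    e6cb_c1 ((g : Matrix I27 I27 F) *ᵥ x) ((g : Matrix I27 I27 F) *ᵥ y) = e6cb_c1 x y := by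
  classical
  obtain ⟨t, ht0, ht1⟩ : ∃ t : F, t ≠ 0 ∧ t ≠ 1 := by
    by_contra hcon
    push Not at hcon
    have hsub : (Finset.univ : Finset F) ⊆ {0, 1} := by
      intro a _
      by_cases ha : a = 0
      · simp [ha]
      · simp [hcon a ha]
    have := Finset.card_le_card hsub
    have h2 : ({0, 1} : Finset F).card ≤ 2 := Finset.card_insert_le _ _
    rw [Finset.card_univ] at this
    omega
  rw [e6cb_mem_E6univ_iff] at hg
  have key : ∀ s : F, e6cb_poly e6cb_tri45 ((g : Matrix I27 I27 F) *ᵥ x + s • ((g : Matrix I27 I27 F) *ᵥ y)) =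
      e6cb_poly e6cb_tri45 (x + s • y) := by
    intro s
    rw [← e6cb_cubicT_eq, ← e6cb_cubicT_eq, ← Matrix.mulVec_smul, ← Matrix.mulVec_add, hg]
  have hx : e6cb_poly e6cb_tri45 ((g : Matrix I27 I27 F) *ᵥ x) = e6cb_poly e6cb_tri45 x := by
    rw [← e6cb_cubicT_eq, ← e6cb_cubicT_eq, hg]
  have hy : e6cb_poly e6cb_tri45 ((g : Matrix I27 I27 F) *ᵥ y) = e6cb_poly e6cb_tri45 y := by
    rw [← e6cb_cubicT_eq, ← e6cb_cubicT_eq, hg]
  have k1 := key 1
  have kt := key t
  rw [e6cb_poly_expand, e6cb_poly_expand, hx, hy] at k1 kt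
  have hne : t * (t - 1) ≠ 0 := mul_ne_zero ht0 (sub_ne_zero.mpr ht1)
  unfold e6cb_c1
  set A := e6cb_poly1 e6cb_tri45 ((g : Matrix I27 I27 F) *ᵥ x) ((g : Matrix I27 I27 F) *ᵥ y)
  set B := e6cb_poly1 e6cb_tri45 ((g : Matrix I27 I27 F) *ᵥ y) ((g : Matrix I27 I27 F) *ᵥ x)
  set A' := e6cb_poly1 e6cb_tri45 x y
  set B' := e6cb_poly1 e6cb_tri45 y x
  have hB : t * (t - 1) * (B - B') = 0 := by linear_combination kt - t * k1
  have hB' : B = B' := sub_eq_zero.mp ((mul_eq_zero.mp hB).resolve_left hne)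
  linear_combination k1 - hB'

/-- The stabiliser maps singular vectors to singular vectors. -/
theorem e6cb_sing_mulVec [Fintype F] (hF : 3 ≤ Fintype.card F) (g : GL I27 F) (hg : g ∈ E6univ F)
    (x : I27 → F) (hx : e6cb_sing x) : e6cb_sing ((g : Matrix I27 I27 F) *ᵥ x) := by
  rw [e6cb_sing_iff] at hx ⊢
  intro y
  have h := e6cb_c1_inv hF g hg x (((g⁻¹ : GL I27 F) : Matrix I27 I27 F) *ᵥ y)
  rw [Matrix.mulVec_mulVec, ← Units.val_mul, mul_inv_cancel, Units.val_one, Matrix.one_mulVec] at h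
  rw [h]
  exact hx _

end field

end Cfsg.Agent.E6C
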