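import Mathlib
import Cfsg.Prelude.Def_E6

/-!
# S1084, part B: the table of sparse root matrices (copy of `notes/S1084/rep27.json`, helper7's P0 data)

`e6cb_entRaw.getD r []` lists the six entries `(target, source, sign)` of `E_r` (so `E_r e_source = sign • e_target`),
root index `r` as in the Prelude's `chevE6`, coordinates coded `9k+3i+j ↦ (k,i,j)` by `e6cb_ix`.
-/

set_option autoImplicit false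

namespace Cfsg.Agent.E6C

open Cfsg.Lie

/-- The index `(k,i,j)` coded by `9k+3i+j`. -/
def e6cb_ix (n : ℕ) : I27 := (Fin.ofNat 3 (n / 9), Fin.ofNat 3 (n / 3), Fin.ofNat 3 n)

/-- All 27 indices. -/
def e6cb_all : List I27 := (List.range 27).map e6cb_ix

theorem e6cb_mem_all (x : I27) : x ∈ e6cb_all := by
  revert x
  decide

/-- A raw entry. -/
def e6cb_e (a b : ℕ) (s : ℤ) : ℕ × ℕ × ℤ := (a, b, s)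

/-- The raw table: for each root, six triples `(target, source, sign)`. -/
def e6cb_entRaw : List (List (ℕ × ℕ × ℤ)) := [
  [e6cb_e 3 0 1, e6cb_e 4 1 1, e6cb_e 5 2 1, e6cb_e 18 19 (-1), e6cb_e 21 22 (-1), e6cb_e 24 25 (-1)],
  [e6cb_e 6 0 (-1), e6cb_e 7 1 (-1), e6cb_e 8 2 (-1), e6cb_e 18 20 1, e6cb_e 21 23 1, e6cb_e 24 26 1],
  [e6cb_e 12 0 1, e6cb_e 9 1 (-1), e6cb_e 24 16 1, e6cb_e 21 17 (-1), e6cb_e 8 19 1, e6cb_e 5 20 (-1)],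
  [e6cb_e 13 0 1, e6cb_e 10 1 (-1), e6cb_e 24 15 (-1), e6cb_e 18 17 1, e6cb_e 8 22 1, e6cb_e 5 23 (-1)],
  [e6cb_e 14 0 1, e6cb_e 11 1 (-1), e6cb_e 21 15 1, e6cb_e 18 16 (-1), e6cb_e 8 25 1, e6cb_e 5 26 (-1)],
  [e6cb_e 15 0 1, e6cb_e 9 2 (-1), e6cb_e 24 13 (-1), e6cb_e 21 14 1, e6cb_e 7 19 (-1), e6cb_e 4 20 1],
  [e6cb_e 16 0 1, e6cb_e 10 2 (-1), e6cb_e 24 12 1, e6cb_e 18 14 (-1), e6cb_e 7 22 (-1), e6cb_e 4 23 1],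
  [e6cb_e 17 0 1, e6cb_e 11 2 (-1), e6cb_e 21 12 (-1), e6cb_e 18 13 1, e6cb_e 7 25 (-1), e6cb_e 4 26 1],
  [e6cb_e 26 0 (-1), e6cb_e 24 6 1, e6cb_e 5 14 1, e6cb_e 4 17 (-1), e6cb_e 10 19 1, e6cb_e 9 22 (-1)],
  [e6cb_e 23 0 1, e6cb_e 21 6 (-1), e6cb_e 5 13 (-1), e6cb_e 4 16 1, e6cb_e 11 19 1, e6cb_e 9 25 (-1)],
  [e6cb_e 20 0 (-1), e6cb_e 18 6 1, e6cb_e 5 12 1, e6cb_e 4 15 (-1), e6cb_e 11 22 1, e6cb_e 10 25 (-1)],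
  [e6cb_e 25 0 (-1), e6cb_e 24 3 1, e6cb_e 8 14 (-1), e6cb_e 7 17 1, e6cb_e 10 20 (-1), e6cb_e 9 23 1],
  [e6cb_e 22 0 1, e6cb_e 21 3 (-1), e6cb_e 8 13 1, e6cb_e 7 16 (-1), e6cb_e 11 20 (-1), e6cb_e 9 26 1],
  [e6cb_e 19 0 (-1), e6cb_e 18 3 1, e6cb_e 8 12 (-1), e6cb_e 7 15 1, e6cb_e 11 23 (-1), e6cb_e 10 26 1],
  [e6cb_e 2 0 (-1), e6cb_e 5 3 (-1), e6cb_e 8 6 (-1), e6cb_e 9 15 1, e6cb_e 10 16 1, e6cb_e 11 17 1],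
  [e6cb_e 1 0 1, e6cb_e 4 3 1, e6cb_e 7 6 1, e6cb_e 9 12 (-1), e6cb_e 10 13 (-1), e6cb_e 11 14 (-1)],
  [e6cb_e 15 1 (-1), e6cb_e 12 2 1, e6cb_e 24 10 (-1), e6cb_e 21 11 1, e6cb_e 6 19 (-1), e6cb_e 3 20 1],
  [e6cb_e 16 1 (-1), e6cb_e 13 2 1, e6cb_e 24 9 1, e6cb_e 18 11 (-1), e6cb_e 6 22 (-1), e6cb_e 3 23 1],
  [e6cb_e 17 1 (-1), e6cb_e 14 2 1, e6cb_e 21 9 (-1), e6cb_e 18 10 1, e6cb_e 6 25 (-1), e6cb_e 3 26 1],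
  [e6cb_e 26 1 1, e6cb_e 24 7 (-1), e6cb_e 5 11 1, e6cb_e 3 17 (-1), e6cb_e 13 19 (-1), e6cb_e 12 22 1],
  [e6cb_e 23 1 (-1), e6cb_e 21 7 1, e6cb_e 5 10 (-1), e6cb_e 3 16 1, e6cb_e 14 19 (-1), e6cb_e 12 25 1],
  [e6cb_e 20 1 1, e6cb_e 18 7 (-1), e6cb_e 5 9 1, e6cb_e 3 15 (-1), e6cb_e 14 22 (-1), e6cb_e 13 25 1],
  [e6cb_e 26 2 1, e6cb_e 24 8 (-1), e6cb_e 4 11 (-1), e6cb_e 3 14 1, e6cb_e 16 19 (-1), e6cb_e 15 22 1],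
  [e6cb_e 23 2 (-1), e6cb_e 21 8 1, e6cb_e 4 10 1, e6cb_e 3 13 (-1), e6cb_e 17 19 (-1), e6cb_e 15 25 1],
  [e6cb_e 20 2 1, e6cb_e 18 8 (-1), e6cb_e 4 9 (-1), e6cb_e 3 12 1, e6cb_e 17 22 (-1), e6cb_e 16 25 1],
  [e6cb_e 3 6 1, e6cb_e 4 7 1, e6cb_e 5 8 1, e6cb_e 20 19 (-1), e6cb_e 23 22 (-1), e6cb_e 26 25 (-1)],
  [e6cb_e 25 1 1, e6cb_e 24 4 (-1), e6cb_e 8 11 (-1), e6cb_e 6 17 1, e6cb_e 13 20 1, e6cb_e 12 23 (-1)],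
  [e6cb_e 22 1 (-1), e6cb_e 21 4 1, e6cb_e 8 10 1, e6cb_e 6 16 (-1), e6cb_e 14 20 1, e6cb_e 12 26 (-1)],
  [e6cb_e 19 1 1, e6cb_e 18 4 (-1), e6cb_e 8 9 (-1), e6cb_e 6 15 1, e6cb_e 14 23 1, e6cb_e 13 26 (-1)],
  [e6cb_e 2 1 1, e6cb_e 5 4 1, e6cb_e 8 7 1, e6cb_e 12 15 (-1), e6cb_e 13 16 (-1), e6cb_e 14 17 (-1)],
  [e6cb_e 25 2 (-1), e6cb_e 24 5 1, e6cb_e 7 11 (-1), e6cb_e 6 14 1, e6cb_e 16 20 (-1), e6cb_e 15 23 1],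
  [e6cb_e 22 2 1, e6cb_e 21 5 (-1), e6cb_e 7 10 1, e6cb_e 6 13 (-1), e6cb_e 17 20 (-1), e6cb_e 15 26 1],
  [e6cb_e 19 2 (-1), e6cb_e 18 5 1, e6cb_e 7 9 (-1), e6cb_e 6 12 1, e6cb_e 17 23 (-1), e6cb_e 16 26 1],
  [e6cb_e 9 11 1, e6cb_e 12 14 1, e6cb_e 15 17 1, e6cb_e 24 18 (-1), e6cb_e 25 19 (-1), e6cb_e 26 20 (-1)],
  [e6cb_e 9 10 (-1), e6cb_e 12 13 (-1), e6cb_e 15 16 (-1), e6cb_e 21 18 1, e6cb_e 22 19 1, e6cb_e 23 20 1],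
  [e6cb_e 10 11 (-1), e6cb_e 13 14 (-1), e6cb_e 16 17 (-1), e6cb_e 24 21 1, e6cb_e 25 22 1, e6cb_e 26 23 1],
  [e6cb_e 11 10 (-1), e6cb_e 14 13 (-1), e6cb_e 17 16 (-1), e6cb_e 21 24 1, e6cb_e 22 25 1, e6cb_e 23 26 1],
  [e6cb_e 10 9 (-1), e6cb_e 13 12 (-1), e6cb_e 16 15 (-1), e6cb_e 18 21 1, e6cb_e 19 22 1, e6cb_e 20 23 1],
  [e6cb_e 11 9 1, e6cb_e 14 12 1, e6cb_e 17 15 1, e6cb_e 18 24 (-1), e6cb_e 19 25 (-1), e6cb_e 20 26 (-1)],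
  [e6cb_e 12 6 1, e6cb_e 9 7 (-1), e6cb_e 26 16 1, e6cb_e 23 17 (-1), e6cb_e 5 18 1, e6cb_e 2 19 (-1)],
  [e6cb_e 13 6 (-1), e6cb_e 10 7 1, e6cb_e 26 15 1, e6cb_e 20 17 (-1), e6cb_e 5 21 (-1), e6cb_e 2 22 1],
  [e6cb_e 14 6 1, e6cb_e 11 7 (-1), e6cb_e 23 15 1, e6cb_e 20 16 (-1), e6cb_e 5 24 1, e6cb_e 2 25 (-1)],
  [e6cb_e 1 2 1, e6cb_e 4 5 1, e6cb_e 7 8 1, e6cb_e 15 12 (-1), e6cb_e 16 13 (-1), e6cb_e 17 14 (-1)],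
  [e6cb_e 15 6 1, e6cb_e 9 8 (-1), e6cb_e 26 13 (-1), e6cb_e 23 14 1, e6cb_e 4 18 (-1), e6cb_e 1 19 1],
  [e6cb_e 16 6 (-1), e6cb_e 10 8 1, e6cb_e 26 12 (-1), e6cb_e 20 14 1, e6cb_e 4 21 1, e6cb_e 1 22 (-1)],
  [e6cb_e 17 6 1, e6cb_e 11 8 (-1), e6cb_e 23 12 (-1), e6cb_e 20 13 1, e6cb_e 4 24 (-1), e6cb_e 1 25 1],
  [e6cb_e 6 3 1, e6cb_e 7 4 1, e6cb_e 8 5 1, e6cb_e 19 20 (-1), e6cb_e 22 23 (-1), e6cb_e 25 26 (-1)],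
  [e6cb_e 12 3 1, e6cb_e 9 4 (-1), e6cb_e 25 16 1, e6cb_e 22 17 (-1), e6cb_e 8 18 (-1), e6cb_e 2 20 1],
  [e6cb_e 13 3 (-1), e6cb_e 10 4 1, e6cb_e 25 15 1, e6cb_e 19 17 (-1), e6cb_e 8 21 1, e6cb_e 2 23 (-1)],
  [e6cb_e 14 3 1, e6cb_e 11 4 (-1), e6cb_e 22 15 1, e6cb_e 19 16 (-1), e6cb_e 8 24 (-1), e6cb_e 2 26 1],
  [e6cb_e 15 3 (-1), e6cb_e 9 5 1, e6cb_e 25 13 1, e6cb_e 22 14 (-1), e6cb_e 7 18 (-1), e6cb_e 1 20 1],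
  [e6cb_e 16 3 1, e6cb_e 10 5 (-1), e6cb_e 25 12 1, e6cb_e 19 14 (-1), e6cb_e 7 21 1, e6cb_e 1 23 (-1)],
  [e6cb_e 17 3 (-1), e6cb_e 11 5 1, e6cb_e 22 12 1, e6cb_e 19 13 (-1), e6cb_e 7 24 (-1), e6cb_e 1 26 1],
  [e6cb_e 26 3 1, e6cb_e 25 6 (-1), e6cb_e 2 14 1, e6cb_e 1 17 (-1), e6cb_e 10 18 1, e6cb_e 9 21 (-1)],
  [e6cb_e 23 3 1, e6cb_e 22 6 (-1), e6cb_e 2 13 1, e6cb_e 1 16 (-1), e6cb_e 11 18 (-1), e6cb_e 9 24 1],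
  [e6cb_e 20 3 1, e6cb_e 19 6 (-1), e6cb_e 2 12 1, e6cb_e 1 15 (-1), e6cb_e 11 21 1, e6cb_e 10 24 (-1)],
  [e6cb_e 0 1 1, e6cb_e 3 4 1, e6cb_e 6 7 1, e6cb_e 12 9 (-1), e6cb_e 13 10 (-1), e6cb_e 14 11 (-1)],
  [e6cb_e 0 2 (-1), e6cb_e 3 5 (-1), e6cb_e 6 8 (-1), e6cb_e 15 9 1, e6cb_e 16 10 1, e6cb_e 17 11 1],
  [e6cb_e 15 7 1, e6cb_e 12 8 (-1), e6cb_e 26 10 1, e6cb_e 23 11 (-1), e6cb_e 3 18 1, e6cb_e 0 19 (-1)],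
  [e6cb_e 16 7 (-1), e6cb_e 13 8 1, e6cb_e 26 9 1, e6cb_e 20 11 (-1), e6cb_e 3 21 (-1), e6cb_e 0 22 1],
  [e6cb_e 17 7 1, e6cb_e 14 8 (-1), e6cb_e 23 9 1, e6cb_e 20 10 (-1), e6cb_e 3 24 1, e6cb_e 0 25 (-1)],
  [e6cb_e 15 4 (-1), e6cb_e 12 5 1, e6cb_e 25 10 (-1), e6cb_e 22 11 1, e6cb_e 6 18 1, e6cb_e 0 20 (-1)],
  [e6cb_e 16 4 1, e6cb_e 13 5 (-1), e6cb_e 25 9 (-1), e6cb_e 19 11 1, e6cb_e 6 21 (-1), e6cb_e 0 23 1],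
  [e6cb_e 17 4 (-1), e6cb_e 14 5 1, e6cb_e 22 9 (-1), e6cb_e 19 10 1, e6cb_e 6 24 1, e6cb_e 0 26 (-1)],
  [e6cb_e 26 4 1, e6cb_e 25 7 (-1), e6cb_e 2 11 (-1), e6cb_e 0 17 1, e6cb_e 13 18 1, e6cb_e 12 21 (-1)],
  [e6cb_e 23 4 1, e6cb_e 22 7 (-1), e6cb_e 2 10 (-1), e6cb_e 0 16 1, e6cb_e 14 18 (-1), e6cb_e 12 24 1],
  [e6cb_e 20 4 1, e6cb_e 19 7 (-1), e6cb_e 2 9 (-1), e6cb_e 0 15 1, e6cb_e 14 21 1, e6cb_e 13 24 (-1)],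
  [e6cb_e 26 5 (-1), e6cb_e 25 8 1, e6cb_e 1 11 (-1), e6cb_e 0 14 1, e6cb_e 16 18 (-1), e6cb_e 15 21 1],
  [e6cb_e 23 5 (-1), e6cb_e 22 8 1, e6cb_e 1 10 (-1), e6cb_e 0 13 1, e6cb_e 17 18 1, e6cb_e 15 24 (-1)],
  [e6cb_e 20 5 (-1), e6cb_e 19 8 1, e6cb_e 1 9 (-1), e6cb_e 0 12 1, e6cb_e 17 21 (-1), e6cb_e 16 24 1],
  [e6cb_e 0 6 (-1), e6cb_e 1 7 (-1), e6cb_e 2 8 (-1), e6cb_e 20 18 1, e6cb_e 23 21 1, e6cb_e 26 24 1],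
  [e6cb_e 0 3 1, e6cb_e 1 4 1, e6cb_e 2 5 1, e6cb_e 19 18 (-1), e6cb_e 22 21 (-1), e6cb_e 25 24 (-1)]]

/-- The six entries `(target, source, sign)` of `E_r`. -/
def e6cb_ent (r : ℕ) : List (I27 × I27 × ℤ) :=
  (e6cb_entRaw.getD r []).map fun e => (e6cb_ix e.1, e6cb_ix e.2.1, e.2.2)

end Cfsg.Agent.E6C
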