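import Mathlib
import Cfsg.Prelude.Def_E6
import Cfsg.Agent.E6C.BFormThm
import Cfsg.Agent.E6C.BTab

/-!
# S1084, package B1a: evaluation of the partial derivatives on special vectors

`e6cb_der d (u + u') = e6cb_der d u + e6cb_der d u' + e6cb_bil d u u'`, the derivative of a basis vector vanishes, and
`e6cb_bil d (e_k) w` is the sum over the (at most one-element) list `e6cb_linList d k` of `κ w_x`.
-/

set_option autoImplicit false

namespace Cfsg.Agent.E6C

open Cfsg.Lie
open scoped Matrix

variable {F : Type*} [CommRing F]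

/-- The polarisation of `e6cb_der d`. -/
def e6cb_bil (d : I27) (u u' : I27 → F) : F :=
  ((e6cb_at d).map fun p => (p.2.2 : F) * (u p.1 * u' p.2.1 + u' p.1 * u p.2.1)).sum

theorem e6cb_der_add (d : I27) (u u' : I27 → F) :
    e6cb_der d (u + u') = e6cb_der d u + e6cb_der d u' + e6cb_bil d u u' := by
  unfold e6cb_der e6cb_bil
  induction e6cb_at d with
  | nil => simp
  | cons p L ih =>
    simp only [List.map_cons, List.sum_cons]
    rw [ih]
    simp only [Pi.add_apply]
    ring

theorem e6cb_der_smul (d : I27) (a : F) (u : I27 → F) : e6cb_der d (a • u) = a ^ 2 * e6cb_der d u := by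
  unfold e6cb_der
  induction e6cb_at d with
  | nil => simp
  | cons p L ih =>
    simp only [List.map_cons, List.sum_cons]
    rw [ih]
    simp only [Pi.smul_apply, smul_eq_mul]
    ring

theorem e6cb_bil_smul_left (d : I27) (a : F) (u u' : I27 → F) :
    e6cb_bil d (a • u) u' = a * e6cb_bil d u u' := by
  unfold e6cb_bil
  induction e6cb_at d with
  | nil => simp
  | cons p L ih =>
    simp only [List.map_cons, List.sum_cons]
    rw [ih]
    simp only [Pi.smul_apply, smul_eq_mul]
    ring

/-- The two indices of each pair of `e6cb_at d` are distinct. -/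
theorem e6cb_at_distinct : ∀ d ∈ e6cb_all, ∀ p ∈ e6cb_at d, p.1 ≠ p.2.1 := by decide

theorem e6cb_der_single (d k : I27) : e6cb_der d (Pi.single k (1 : F)) = 0 := by
  unfold e6cb_der
  apply List.sum_eq_zero
  intro y hy
  rw [List.mem_map] at hy
  obtain ⟨p, hp, rfl⟩ := hy
  have hne := e6cb_at_distinct d (e6cb_mem_all d) p hp
  by_cases h1 : p.1 = k
  · have h2 : p.2.1 ≠ k := fun h => hne (h1.trans h.symm)
    simp [Pi.single_apply, h2]
  · simp [Pi.single_apply, h1]

/-- The indices `x` (with sign) such that `κ x_k x_x x_d` is a monomial of `cubicT`: at most one. -/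
def e6cb_linList (d k : I27) : List (I27 × ℤ) :=
  (e6cb_at d).filterMap fun p =>
    if p.1 = k then some (p.2.1, p.2.2) else if p.2.1 = k then some (p.1, p.2.2) else none

theorem e6cb_bil_single (d k : I27) (w : I27 → F) :
    e6cb_bil d (Pi.single k 1) w = ((e6cb_linList d k).map fun q => (q.2 : F) * w q.1).sum := by
  unfold e6cb_bil e6cb_linList
  have hd := e6cb_at_distinct d (e6cb_mem_all d)
  generalize e6cb_at d = L0 at hd ⊢
  induction L0 with
  | nil => simp
  | cons p L ih =>
    have hne := hd p List.mem_cons_self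
    rw [List.map_cons, List.sum_cons, ih (fun q hq => hd q (List.mem_cons_of_mem _ hq)),
      List.filterMap_cons]
    by_cases h1 : p.1 = k
    · have h2 : p.2.1 ≠ k := fun h => hne (h1.trans h.symm)
      simp [Pi.single_apply, h1, h2]
    · by_cases h2 : p.2.1 = k
      · simp [Pi.single_apply, h1, h2]
      · simp [Pi.single_apply, h1, h2]

/-- `∂_d` at `a e_k + w`. -/
theorem e6cb_der_smul_single_add (d k : I27) (a : F) (w : I27 → F) :
    e6cb_der d (a • Pi.single k 1 + w) =
      e6cb_der d w + a * ((e6cb_linList d k).map fun q => (q.2 : F) * w q.1).sum := by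
  rw [e6cb_der_add, e6cb_der_smul, e6cb_der_single, e6cb_bil_smul_left, e6cb_bil_single]
  ring

end Cfsg.Agent.E6C
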