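import Mathlib
import Cfsg.Prelude.Def_E6
import Cfsg.Agent.E6C.BDer

/-!
# S1084, package B1b: columns of an isometry, the interface to part A, allowed root elements
-/

set_option autoImplicit false

namespace Cfsg.Agent.E6C

open Cfsg.Lie
open scoped Matrix

variable {F : Type*} [Field F]

/-- The interface to part A: root elements `X r t` of `E6univ F` acting by `w ↦ w + t • E_r w`. -/
structure e6cb_Roots (F : Type*) [Field F] where
  X : ℕ → F → GL I27 F
  mem : ∀ r t, r < 72 → X r t ∈ E6univ F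
  mulVec : ∀ r t, r < 72 → ∀ w : I27 → F,
    (X r t : Matrix I27 I27 F) *ᵥ w = w + t • e6cb_delta (e6cb_ent r) w

/-- The group generated by the root elements. -/
def e6cb_Roots.N (R : e6cb_Roots F) : Subgroup (GL I27 F) :=
  Subgroup.closure {x | ∃ r t, r < 72 ∧ x = R.X r t}

theorem e6cb_Roots.X_mem_N (R : e6cb_Roots F) {r : ℕ} (hr : r < 72) (t : F) : R.X r t ∈ R.N :=
  Subgroup.subset_closure ⟨r, t, hr, rfl⟩

theorem e6cb_Roots.N_le (R : e6cb_Roots F) : R.N ≤ E6univ F := by
  unfold e6cb_Roots.N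
  rw [Subgroup.closure_le]
  rintro x ⟨r, t, hr, rfl⟩
  exact R.mem r t hr

/-- The column `c` of `g`. -/
def e6cb_col (g : GL I27 F) (c : I27) : I27 → F := fun i => (g : Matrix I27 I27 F) i c

theorem e6cb_col_eq (g : GL I27 F) (c : I27) :
    e6cb_col g c = (g : Matrix I27 I27 F) *ᵥ Pi.single c 1 := by
  funext i
  simp [e6cb_col, Matrix.mulVec, dotProduct, Pi.single_apply]

theorem e6cb_col_mul (n g : GL I27 F) (c : I27) :
    e6cb_col (n * g) c = (n : Matrix I27 I27 F) *ᵥ e6cb_col g c := by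
  funext i
  simp [e6cb_col, Matrix.mulVec, dotProduct, Matrix.mul_apply]

/-- The columns in `K` are multiples of the basis vectors. -/
def e6cb_colsOK (g : GL I27 F) (K : List I27) : Prop :=
  ∀ k ∈ K, ∀ i, i ≠ k → (g : Matrix I27 I27 F) i k = 0

theorem e6cb_col_of_ok {g : GL I27 F} {K : List I27} (h : e6cb_colsOK g K) {k : I27} (hk : k ∈ K) :
    e6cb_col g k = (g : Matrix I27 I27 F) k k • Pi.single k 1 := by
  funext i
  by_cases hi : i = k
  · subst hi
    simp [e6cb_col]
  · simp [e6cb_col, h k hk i hi, Pi.single_apply, hi]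

theorem e6cb_diag_ne_zero {g : GL I27 F} {k : I27} (h : ∀ i, i ≠ k → (g : Matrix I27 I27 F) i k = 0) :
    (g : Matrix I27 I27 F) k k ≠ 0 := by
  intro h0
  have h1 : ((g⁻¹ * g : GL I27 F) : Matrix I27 I27 F) k k = 1 := by
    rw [inv_mul_cancel]
    simp
  rw [Units.val_mul, Matrix.mul_apply] at h1
  have h2 : ∀ i ∈ Finset.univ, ((g⁻¹ : GL I27 F) : Matrix I27 I27 F) k i * (g : Matrix I27 I27 F) i k = 0 := by
    intro i _
    by_cases hi : i = k
    · rw [hi, h0, mul_zero]
    · rw [h i hi, mul_zero]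
  rw [Finset.sum_eq_zero h2] at h1
  exact zero_ne_one h1

/-- No entry of `E_r` has its source in `K`. -/
def e6cb_allowed (K : List I27) (r : ℕ) : Bool := (e6cb_ent r).all fun e => !(K.contains e.2.1)

theorem e6cb_hit_mem {ent : List (I27 × I27 × ℤ)} {j s : I27} {ε : ℤ} (h : e6cb_hit ent j = some (s, ε)) :
    (j, s, ε) ∈ ent := by
  unfold e6cb_hit at h
  rw [Option.map_eq_some_iff] at h
  obtain ⟨e, he, h2⟩ := h
  have hm := List.mem_of_find?_eq_some he
  have hj := List.find?_some he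
  simp only [decide_eq_true_eq] at hj
  obtain ⟨a, b, c⟩ := e
  simp only [Prod.mk.injEq] at h2 hj
  obtain ⟨rfl, rfl⟩ := h2
  subst hj
  exact hm

theorem e6cb_delta_single_of_allowed {K : List I27} {r : ℕ} (h : e6cb_allowed K r = true) {k : I27} (hk : k ∈ K)
    (a : F) : e6cb_delta (e6cb_ent r) (a • (Pi.single k 1 : I27 → F)) = 0 := by
  funext j
  unfold e6cb_delta
  rcases hh : e6cb_hit (e6cb_ent r) j with _ | ⟨s, ε⟩
  · rfl
  · have hm := e6cb_hit_mem hh
    unfold e6cb_allowed at h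
    rw [List.all_eq_true] at h
    have := h _ hm
    simp only [Bool.not_eq_true', List.contains_eq_mem, decide_eq_false_iff_not] at this
    have hsk : s ≠ k := fun e => this (e ▸ hk)
    simp [Pi.single_apply, hsk]

theorem e6cb_colsOK_X_mul (R : e6cb_Roots F) {K : List I27} {r : ℕ} (hr : r < 72) (h : e6cb_allowed K r = true)
    (t : F) {g : GL I27 F} (hg : e6cb_colsOK g K) : e6cb_colsOK (R.X r t * g) K := by
  intro k hk i hi
  have h1 : e6cb_col (R.X r t * g) k = e6cb_col g k := by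
    rw [e6cb_col_mul, R.mulVec r t hr, e6cb_col_of_ok hg hk, e6cb_delta_single_of_allowed h hk, smul_zero, add_zero]
  have h2 := congrFun h1 i
  simp only [e6cb_col] at h2
  rw [h2]
  exact hg k hk i hi

/-- The entry `(i, c)` of `X_r(t) g`. -/
theorem e6cb_X_mul_apply (R : e6cb_Roots F) {r : ℕ} (hr : r < 72) (t : F) (g : GL I27 F) (i c : I27) :
    ((R.X r t * g : GL I27 F) : Matrix I27 I27 F) i c =
      (g : Matrix I27 I27 F) i c + t * e6cb_delta (e6cb_ent r) (e6cb_col g c) i := by
  have h1 := congrFun (e6cb_col_mul (R.X r t) g c) i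
  rw [R.mulVec r t hr] at h1
  simpa [e6cb_col] using h1

end Cfsg.Agent.E6C
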