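import Mathlib

set_option autoImplicit false
set_option linter.unusedSimpArgs false

/-!
# S1084: ring identities for root elements `1 + t A` with `A² = 0` (file `Cfsg/Agent/E6C/RootAlg.lean`, helper7)
-/

namespace Cfsg.Agent.E6C

variable {R : Type*} [Ring R]

/-- `(1 - B)(1 - A)(1 + B)(1 + A) = 1 - (AB - BA)` if `A² = B² = ABA = BAB = 0`. -/
theorem e6c_alg_comm {A B : R} (hAA : A * A = 0) (hBB : B * B = 0) (hABA : A * B * A = 0) (hBAB : B * A * B = 0) :
    (1 - B) * (1 - A) * (1 + B) * (1 + A) = 1 - (A * B - B * A) := by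
  have e1 : (1 - A) * (1 + B) * (1 + A) = 1 + B - A * B + B * A := by
    have : (1 - A) * (1 + B) * (1 + A) = 1 + B - A * B + B * A - A * A - A * B * A := by noncomm_ring
    rw [this, hAA, hABA]; abel
  have e2 : (1 - B) * (1 - A) * (1 + B) * (1 + A) = (1 - B) * ((1 - A) * (1 + B) * (1 + A)) := by noncomm_ring
  rw [e2, e1]
  have : (1 - B) * (1 + B - A * B + B * A) = 1 - A * B + B * A - B * B + B * A * B - B * B * A := by noncomm_ring
  rw [this, hBB, hBAB]
  noncomm_ring

/-- `(1 + A)(1 + A') = 1 + (A + A')` if `A A' = 0`. -/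
theorem e6c_alg_add {A A' : R} (h : A * A' = 0) : (1 + A) * (1 + A') = 1 + (A + A') := by
  have : (1 + A) * (1 + A') = 1 + (A + A') + A * A' := by noncomm_ring
  rw [this, h, add_zero]

section torus

variable {F : Type*} [Field F] {S : Type*} [Ring S] [Algebra F S]


section
variable {A B : S} (hAA : A * A = 0) (hBB : B * B = 0) (hABA : A * B * A = A) (hBAB : B * A * B = B)
include hAA hBB hABA hBAB

theorem e6c_alg_n {t : F} (ht : t ≠ 0) :
    (1 + t • A) * (1 - t⁻¹ • B) * (1 + t • A) = 1 + t • A - t⁻¹ • B - A * B - B * A := by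
  have hAAx : ∀ x : S, A * (A * x) = 0 := fun x => by rw [← mul_assoc, hAA, zero_mul]
  have hBBx : ∀ x : S, B * (B * x) = 0 := fun x => by rw [← mul_assoc, hBB, zero_mul]
  have hABA' : A * (B * A) = A := by rw [← mul_assoc, hABA]
  have hBAB' : B * (A * B) = B := by rw [← mul_assoc, hBAB]
  have hABAx : ∀ x : S, A * (B * (A * x)) = A * x := fun x => by rw [← mul_assoc, ← mul_assoc, hABA]
  have hBABx : ∀ x : S, B * (A * (B * x)) = B * x := fun x => by rw [← mul_assoc, ← mul_assoc, hBAB]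
  simp only [mul_add, add_mul, mul_sub, sub_mul, smul_mul_assoc, mul_smul_comm, smul_smul, mul_one, one_mul,
    mul_assoc, hAA, hBB, hABA', hBAB', hAAx, hBBx, hABAx, hBABx, smul_zero, mul_zero, zero_mul,
    mul_inv_cancel₀ ht, inv_mul_cancel₀ ht, one_smul, smul_add, smul_sub, add_zero, sub_zero]
  abel

theorem e6c_alg_h {t : F} (ht : t ≠ 0) :
    (1 + t • A - t⁻¹ • B - A * B - B * A) * (1 - A + B - A * B - B * A) =
      1 - A * B - B * A + t • (A * B) + t⁻¹ • (B * A) := by
  have hAAx : ∀ x : S, A * (A * x) = 0 := fun x => by rw [← mul_assoc, hAA, zero_mul]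
  have hBBx : ∀ x : S, B * (B * x) = 0 := fun x => by rw [← mul_assoc, hBB, zero_mul]
  have hABA' : A * (B * A) = A := by rw [← mul_assoc, hABA]
  have hBAB' : B * (A * B) = B := by rw [← mul_assoc, hBAB]
  have hABAx : ∀ x : S, A * (B * (A * x)) = A * x := fun x => by rw [← mul_assoc, ← mul_assoc, hABA]
  have hBABx : ∀ x : S, B * (A * (B * x)) = B * x := fun x => by rw [← mul_assoc, ← mul_assoc, hBAB]
  simp only [mul_add, add_mul, mul_sub, sub_mul, smul_mul_assoc, mul_smul_comm, smul_smul, mul_one, one_mul,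
    mul_assoc, hAA, hBB, hABA', hBAB', hAAx, hBBx, hABAx, hBABx, smul_zero, mul_zero, zero_mul,
    one_smul, smul_add, smul_sub, add_zero, sub_zero]
  abel

theorem e6c_alg_hh (t u : F) :
    (1 - A * B - B * A + t • (A * B) + t⁻¹ • (B * A)) * (1 - A * B - B * A + u • (A * B) + u⁻¹ • (B * A)) =
      1 - A * B - B * A + (t * u) • (A * B) + (t * u)⁻¹ • (B * A) := by
  have hAAx : ∀ x : S, A * (A * x) = 0 := fun x => by rw [← mul_assoc, hAA, zero_mul]
  have hBBx : ∀ x : S, B * (B * x) = 0 := fun x => by rw [← mul_assoc, hBB, zero_mul]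
  have hABA' : A * (B * A) = A := by rw [← mul_assoc, hABA]
  have hBAB' : B * (A * B) = B := by rw [← mul_assoc, hBAB]
  have hABAx : ∀ x : S, A * (B * (A * x)) = A * x := fun x => by rw [← mul_assoc, ← mul_assoc, hABA]
  have hBABx : ∀ x : S, B * (A * (B * x)) = B * x := fun x => by rw [← mul_assoc, ← mul_assoc, hBAB]
  simp only [mul_add, add_mul, mul_sub, sub_mul, smul_mul_assoc, mul_smul_comm, smul_smul, mul_one, one_mul,
    mul_assoc, hAA, hBB, hABA', hBAB', hAAx, hBBx, hABAx, hBABx, smul_zero, mul_zero, zero_mul,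
    one_smul, smul_add, smul_sub, add_zero, sub_zero, mul_inv]
  rw [mul_comm u t, mul_comm u⁻¹ t⁻¹]
  abel
end

end torus

end Cfsg.Agent.E6C
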