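import Mathlib
import Cfsg.Prelude.Def_E6
import Cfsg.Prelude.Def_ChevE6

set_option autoImplicit false
set_option linter.unusedSectionVars false
set_option linter.unusedVariables false

/-!
# S1084 (E₆ via the cubic form), definitions (file `Cfsg/Agent/E6C/Defs.lean`, helper7)

The 27-dimensional module of `E₆` on `I27 = Fin 3 × Fin 3 × Fin 3`, from tables: `e6c_act` gives for each root index `r < 72` of the
Prelude's `chevE6` the six triples `(c, c', ε)` with `E_r e_c = ε e_{c'}` (indices `e6c_enc (k,i,j) = 9k + 3i + j`); `e6c_tri` the 45 monomials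
`κ x_a x_b x_c` of `cubicT`.  Generated by `notes/S1084/gen27.py` + `match.py` + `final.py` from the Prelude's structure constants:
`[E_r, E_s] = N_rs E_{r+s}` with the Prelude's `N_rs`.
`e6c_E F r`, `e6c_XM F r t = 1 + t • E_r`, `e6c_X r t : GL I27 F`, `e6c_G0 F = ⟨X_r(t)⟩`.
-/

namespace Cfsg.Agent.E6C

open Cfsg Cfsg.Lie Matrix

/-- the index `9k + 3i + j` of the coordinate `(k, i, j)`. -/
def e6c_enc (x : I27) : ℕ := 9 * x.1.val + 3 * x.2.1.val + x.2.2.val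

/-- the coordinate of the index `n < 27`. -/
def e6c_dec (n : ℕ) : I27 :=
  (⟨n / 9 % 3, Nat.mod_lt _ (by norm_num)⟩, ⟨n / 3 % 3, Nat.mod_lt _ (by norm_num)⟩, ⟨n % 3, Nat.mod_lt _ (by norm_num)⟩)

theorem e6c_dec_enc : ∀ x : I27, e6c_dec (e6c_enc x) = x := by decide

theorem e6c_enc_dec : ∀ n < 27, e6c_enc (e6c_dec n) = n := by decide

theorem e6c_enc_lt : ∀ x : I27, e6c_enc x < 27 := by decide

theorem e6c_enc_inj {x y : I27} (h : e6c_enc x = e6c_enc y) : x = y := by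
  rw [← e6c_dec_enc x, ← e6c_dec_enc y, h]

/-- for each root `r < 72`: the triples `(c, c', ε)` with `E_r e_c = ε e_{c'}`. -/
def e6c_act : List (List (ℕ × ℕ × ℤ)) :=
  [[(0, 3, 1), (1, 4, 1), (2, 5, 1), (19, 18, -1), (22, 21, -1), (25, 24, -1)], [(0, 6, -1), (1, 7, -1), (2, 8, -1), (20, 18, 1), (23, 21, 1), (26, 24, 1)], [(0, 12, 1), (1, 9, -1), (16, 24, 1), (17, 21, -1), (19, 8, 1), (20, 5, -1)], [(0, 13, 1), (1, 10, -1), (15, 24, -1), (17, 18, 1), (22, 8, 1), (23, 5, -1)], [(0, 14, 1), (1, 11, -1), (15, 21, 1), (16, 18, -1), (25, 8, 1), (26, 5, -1)], [(0, 15, 1), (2, 9, -1), (13, 24, -1), (14, 21, 1), (19, 7, -1), (20, 4, 1)], [(0, 16, 1), (2, 10, -1), (12, 24, 1), (14, 18, -1), (22, 7, -1), (23, 4, 1)], [(0, 17, 1), (2, 11, -1), (12, 21, -1), (13, 18, 1), (25, 7, -1), (26, 4, 1)], [(0, 26, -1), (6, 24, 1), (14, 5, 1), (17, 4, -1), (19, 10, 1), (22, 9, -1)], [(0, 23, 1), (6,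 21, -1), (13, 5, -1), (16, 4, 1), (19, 11, 1), (25, 9, -1)], [(0, 20, -1), (6, 18, 1), (12, 5, 1), (15, 4, -1), (22, 11, 1), (25, 10, -1)], [(0, 25, -1), (3, 24, 1), (14, 8, -1), (17, 7, 1), (20, 10, -1), (23, 9, 1)], [(0, 22, 1), (3, 21, -1), (13, 8, 1), (16, 7, -1), (20, 11, -1), (26, 9, 1)], [(0, 19, -1), (3, 18, 1), (12, 8, -1), (15, 7, 1), (23, 11, -1), (26, 10, 1)], [(0, 2, -1), (3, 5, -1), (6, 8, -1), (15, 9, 1), (16, 10, 1), (17, 11, 1)], [(0, 1, 1), (3, 4, 1), (6, 7, 1), (12, 9, -1), (13, 10, -1), (14, 11, -1)], [(1, 15, -1), (2, 12, 1), (10, 24, -1), (11, 21, 1), (19, 6, -1), (20, 3, 1)], [(1, 16, -1), (2, 13, 1), (9, 24, 1), (11, 18, -1), (22, 6, -1), (23, 3, 1)], [(1, 17, -1), (2, 14, 1), (9, 21, -1), (10, 18, 1), (25, 6, -1), (26, 3, 1)], [(1, 26, 1), (7, 24, -1), (11, 5, 1), (17, 3, -1), (19, 13, -1), (22, 12, 1)], [(1, 23, -1), (7, 21, 1), (10, 5, -1), (16, 3, 1),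 (19, 14, -1), (25, 12, 1)], [(1, 20, 1), (7, 18, -1), (9, 5, 1), (15, 3, -1), (22, 14, -1), (25, 13, 1)], [(2, 26, 1), (8, 24, -1), (11, 4, -1), (14, 3, 1), (19, 16, -1), (22, 15, 1)], [(2, 23, -1), (8, 21, 1), (10, 4, 1), (13, 3, -1), (19, 17, -1), (25, 15, 1)], [(2, 20, 1), (8, 18, -1), (9, 4, -1), (12, 3, 1), (22, 17, -1), (25, 16, 1)], [(6, 3, 1), (7, 4, 1), (8, 5, 1), (19, 20, -1), (22, 23, -1), (25, 26, -1)], [(1, 25, 1), (4, 24, -1), (11, 8, -1), (17, 6, 1), (20, 13, 1), (23, 12, -1)], [(1, 22, -1), (4, 21, 1), (10, 8, 1), (16, 6, -1), (20, 14, 1), (26, 12, -1)], [(1, 19, 1), (4, 18, -1), (9, 8, -1), (15, 6, 1), (23, 14, 1), (26, 13, -1)], [(1, 2, 1), (4, 5, 1), (7, 8, 1), (15, 12, -1), (16, 13, -1), (17, 14, -1)], [(2, 25, -1), (5, 24, 1), (11, 7, -1), (14, 6, 1), (20, 16, -1), (23, 15, 1)], [(2, 22, 1), (5, 21, -1), (10, 7, 1), (13, 6, -1), (20, 17, -1), (26, 15, 1)],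 [(2, 19, -1), (5, 18, 1), (9, 7, -1), (12, 6, 1), (23, 17, -1), (26, 16, 1)], [(11, 9, 1), (14, 12, 1), (17, 15, 1), (18, 24, -1), (19, 25, -1), (20, 26, -1)], [(10, 9, -1), (13, 12, -1), (16, 15, -1), (18, 21, 1), (19, 22, 1), (20, 23, 1)], [(11, 10, -1), (14, 13, -1), (17, 16, -1), (21, 24, 1), (22, 25, 1), (23, 26, 1)], [(10, 11, -1), (13, 14, -1), (16, 17, -1), (24, 21, 1), (25, 22, 1), (26, 23, 1)], [(9, 10, -1), (12, 13, -1), (15, 16, -1), (21, 18, 1), (22, 19, 1), (23, 20, 1)], [(9, 11, 1), (12, 14, 1), (15, 17, 1), (24, 18, -1), (25, 19, -1), (26, 20, -1)], [(6, 12, 1), (7, 9, -1), (16, 26, 1), (17, 23, -1), (18, 5, 1), (19, 2, -1)], [(6, 13, -1), (7, 10, 1), (15, 26, 1), (17, 20, -1), (21, 5, -1), (22, 2, 1)], [(6, 14, 1), (7, 11, -1), (15, 23, 1), (16, 20, -1), (24, 5, 1), (25, 2, -1)], [(2, 1, 1), (5, 4, 1), (8, 7, 1), (12, 15, -1), (13, 16, -1), (14, 17, -1)], [(6,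 15, 1), (8, 9, -1), (13, 26, -1), (14, 23, 1), (18, 4, -1), (19, 1, 1)], [(6, 16, -1), (8, 10, 1), (12, 26, -1), (14, 20, 1), (21, 4, 1), (22, 1, -1)], [(6, 17, 1), (8, 11, -1), (12, 23, -1), (13, 20, 1), (24, 4, -1), (25, 1, 1)], [(3, 6, 1), (4, 7, 1), (5, 8, 1), (20, 19, -1), (23, 22, -1), (26, 25, -1)], [(3, 12, 1), (4, 9, -1), (16, 25, 1), (17, 22, -1), (18, 8, -1), (20, 2, 1)], [(3, 13, -1), (4, 10, 1), (15, 25, 1), (17, 19, -1), (21, 8, 1), (23, 2, -1)], [(3, 14, 1), (4, 11, -1), (15, 22, 1), (16, 19, -1), (24, 8, -1), (26, 2, 1)], [(3, 15, -1), (5, 9, 1), (13, 25, 1), (14, 22, -1), (18, 7, -1), (20, 1, 1)], [(3, 16, 1), (5, 10, -1), (12, 25, 1), (14, 19, -1), (21, 7, 1), (23, 1, -1)], [(3, 17, -1), (5, 11, 1), (12, 22, 1), (13, 19, -1), (24, 7, -1), (26, 1, 1)], [(3, 26, 1), (6, 25, -1), (14, 2, 1), (17, 1, -1), (18, 10, 1), (21, 9, -1)], [(3, 23, 1), (6, 22, -1), (13,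 2, 1), (16, 1, -1), (18, 11, -1), (24, 9, 1)], [(3, 20, 1), (6, 19, -1), (12, 2, 1), (15, 1, -1), (21, 11, 1), (24, 10, -1)], [(1, 0, 1), (4, 3, 1), (7, 6, 1), (9, 12, -1), (10, 13, -1), (11, 14, -1)], [(2, 0, -1), (5, 3, -1), (8, 6, -1), (9, 15, 1), (10, 16, 1), (11, 17, 1)], [(7, 15, 1), (8, 12, -1), (10, 26, 1), (11, 23, -1), (18, 3, 1), (19, 0, -1)], [(7, 16, -1), (8, 13, 1), (9, 26, 1), (11, 20, -1), (21, 3, -1), (22, 0, 1)], [(7, 17, 1), (8, 14, -1), (9, 23, 1), (10, 20, -1), (24, 3, 1), (25, 0, -1)], [(4, 15, -1), (5, 12, 1), (10, 25, -1), (11, 22, 1), (18, 6, 1), (20, 0, -1)], [(4, 16, 1), (5, 13, -1), (9, 25, -1), (11, 19, 1), (21, 6, -1), (23, 0, 1)], [(4, 17, -1), (5, 14, 1), (9, 22, -1), (10, 19, 1), (24, 6, 1), (26, 0, -1)], [(4, 26, 1), (7, 25, -1), (11, 2, -1), (17, 0, 1), (18, 13, 1), (21, 12, -1)], [(4, 23, 1), (7, 22, -1), (10, 2, -1), (16, 0, 1), (18, 14, -1),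 (24, 12, 1)], [(4, 20, 1), (7, 19, -1), (9, 2, -1), (15, 0, 1), (21, 14, 1), (24, 13, -1)], [(5, 26, -1), (8, 25, 1), (11, 1, -1), (14, 0, 1), (18, 16, -1), (21, 15, 1)], [(5, 23, -1), (8, 22, 1), (10, 1, -1), (13, 0, 1), (18, 17, 1), (24, 15, -1)], [(5, 20, -1), (8, 19, 1), (9, 1, -1), (12, 0, 1), (21, 17, -1), (24, 16, 1)], [(6, 0, -1), (7, 1, -1), (8, 2, -1), (18, 20, 1), (21, 23, 1), (24, 26, 1)], [(3, 0, 1), (4, 1, 1), (5, 2, 1), (18, 19, -1), (21, 22, -1), (24, 25, -1)]]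

/-- the 45 monomials `κ x_a x_b x_c` of the cubic form. -/
def e6c_tri : List (ℕ × ℕ × ℕ × ℤ) :=
  [(0, 4, 8, 1), (0, 5, 7, -1), (0, 9, 18, -1), (0, 10, 21, -1), (0, 11, 24, -1), (1, 3, 8, -1), (1, 5, 6, 1), (1, 12, 18, -1), (1, 13, 21, -1), (1, 14, 24, -1), (2, 3, 7, 1), (2, 4, 6, -1), (2, 15, 18, -1), (2, 16, 21, -1), (2, 17, 24, -1), (3, 9, 19, -1), (3, 10, 22, -1), (3, 11, 25, -1), (4, 12, 19, -1), (4, 13, 22, -1), (4, 14, 25, -1), (5, 15, 19, -1), (5, 16, 22, -1), (5, 17, 25, -1), (6, 9, 20, -1), (6, 10, 23, -1), (6, 11, 26, -1), (7, 12, 20, -1), (7, 13, 23, -1), (7, 14, 26, -1), (8, 15, 20, -1), (8, 16, 23, -1), (8, 17, 26, -1), (9, 13, 17, 1), (9, 14, 16, -1), (10, 12, 17, -1), (10, 14, 15, 1), (11, 12, 16, 1), (11, 13, 15, -1), (18, 22, 26, 1), (18, 23, 25, -1), (19, 21, 26, -1), (19, 23, 24, 1), (20, 21, 25, 1), (20, 22, 24, -1)]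


/-- `E_r e_c = ε e_{c'}` as `some (c', ε)`, `E_r e_c = 0` as `none`. -/
def e6c_step (r c : ℕ) : Option (ℕ × ℤ) :=
  ((e6c_act.getD r []).find? (fun e => e.1 == c)).map (fun e => e.2)

/-- the matrix of a signed partial map of the indices. -/
def e6c_spm (F : Type*) [Ring F] (f : ℕ → Option (ℕ × ℤ)) : Matrix I27 I27 F :=
  fun row col => match f (e6c_enc col) with
    | none => 0
    | some e => if e.1 = e6c_enc row then ((e.2 : ℤ) : F) else 0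

/-- the root vector `E_r` on the 27-dimensional module. -/
def e6c_E (F : Type*) [Ring F] (r : ℕ) : Matrix I27 I27 F := e6c_spm F (e6c_step r)

/-- the matrix of the root element `X_r(t) = 1 + t E_r`. -/
def e6c_XM (F : Type*) [Ring F] (r : ℕ) (t : F) : Matrix I27 I27 F := 1 + t • e6c_E F r

/-- the basis vector of the index `c`. -/
def e6c_e (F : Type*) [Ring F] (c : ℕ) : I27 → F := Pi.single (e6c_dec c) 1

/-- the value of the cubic form from the table of its monomials. -/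
def e6c_cub {F : Type*} [CommRing F] (v : I27 → F) : F :=
  (e6c_tri.map fun e => ((e.2.2.2 : ℤ) : F) * v (e6c_dec e.1) * v (e6c_dec e.2.1) * v (e6c_dec e.2.2.1)).sum

theorem e6c_dec_0 : e6c_dec 0 = (0, 0, 0) := by decide
theorem e6c_dec_1 : e6c_dec 1 = (0, 0, 1) := by decide
theorem e6c_dec_2 : e6c_dec 2 = (0, 0, 2) := by decide
theorem e6c_dec_3 : e6c_dec 3 = (0, 1, 0) := by decide
theorem e6c_dec_4 : e6c_dec 4 = (0, 1, 1) := by decide
theorem e6c_dec_5 : e6c_dec 5 = (0, 1, 2) := by decide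
theorem e6c_dec_6 : e6c_dec 6 = (0, 2, 0) := by decide
theorem e6c_dec_7 : e6c_dec 7 = (0, 2, 1) := by decide
theorem e6c_dec_8 : e6c_dec 8 = (0, 2, 2) := by decide
theorem e6c_dec_9 : e6c_dec 9 = (1, 0, 0) := by decide
theorem e6c_dec_10 : e6c_dec 10 = (1, 0, 1) := by decide
theorem e6c_dec_11 : e6c_dec 11 = (1, 0, 2) := by decide
theorem e6c_dec_12 : e6c_dec 12 = (1, 1, 0) := by decide
theorem e6c_dec_13 : e6c_dec 13 = (1, 1, 1) := by decide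
theorem e6c_dec_14 : e6c_dec 14 = (1, 1, 2) := by decide
theorem e6c_dec_15 : e6c_dec 15 = (1, 2, 0) := by decide
theorem e6c_dec_16 : e6c_dec 16 = (1, 2, 1) := by decide
theorem e6c_dec_17 : e6c_dec 17 = (1, 2, 2) := by decide
theorem e6c_dec_18 : e6c_dec 18 = (2, 0, 0) := by decide
theorem e6c_dec_19 : e6c_dec 19 = (2, 0, 1) := by decide
theorem e6c_dec_20 : e6c_dec 20 = (2, 0, 2) := by decide
theorem e6c_dec_21 : e6c_dec 21 = (2, 1, 0) := by decide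
theorem e6c_dec_22 : e6c_dec 22 = (2, 1, 1) := by decide
theorem e6c_dec_23 : e6c_dec 23 = (2, 1, 2) := by decide
theorem e6c_dec_24 : e6c_dec 24 = (2, 2, 0) := by decide
theorem e6c_dec_25 : e6c_dec 25 = (2, 2, 1) := by decide
theorem e6c_dec_26 : e6c_dec 26 = (2, 2, 2) := by decide

set_option maxHeartbeats 2000000 in
/-- the cubic form is the sum of its 45 monomials. -/
theorem e6c_cubicT_eq {F : Type*} [CommRing F] (v : I27 → F) : cubicT v = e6c_cub v := by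
  unfold e6c_cub e6c_tri cubicT mat3
  simp only [List.map_cons, List.map_nil, List.sum_cons, List.sum_nil]
  rw [Matrix.det_fin_three, Matrix.det_fin_three, Matrix.det_fin_three, Matrix.trace_fin_three]
  simp only [Matrix.mul_apply, Fin.sum_univ_three, Matrix.of_apply]
  simp only [e6c_dec_0, e6c_dec_1, e6c_dec_2, e6c_dec_3, e6c_dec_4, e6c_dec_5, e6c_dec_6, e6c_dec_7, e6c_dec_8, e6c_dec_9, e6c_dec_10, e6c_dec_11, e6c_dec_12, e6c_dec_13, e6c_dec_14, e6c_dec_15, e6c_dec_16, e6c_dec_17, e6c_dec_18, e6c_dec_19, e6c_dec_20, e6c_dec_21, e6c_dec_22, e6c_dec_23, e6c_dec_24, e6c_dec_25, e6c_dec_26, Int.cast_one, Int.cast_neg]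
  ring

end Cfsg.Agent.E6C
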