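import Mathlib
import Cfsg.Agent.E6C.Defs

set_option autoImplicit false
set_option linter.unusedSectionVars false
set_option linter.unusedVariables false

/-!
# S1084: signed partial maps of the 27 indices and their matrices (file `Cfsg/Agent/E6C/Spm.lean`, helper7)

`e6c_spm F f` is the matrix with `f c = some (c', ε) ↦ (column c has the single entry ε in row c')`.
Products are compositions (`e6c_spm_mul`), equalities and linear relations are checked column by column on the tables
(`e6c_spm_congr`, `e6c_spm_zero`, `e6c_spm_rel`), the action on vectors is read off the transposed map (`e6c_spm_mulVec`).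
-/

namespace Cfsg.Agent.E6C

open Cfsg Cfsg.Lie Matrix

variable {F : Type*} [Ring F]

/-- composition of signed partial maps. -/
def e6c_comp (f g : ℕ → Option (ℕ × ℤ)) : ℕ → Option (ℕ × ℤ) := fun c =>
  (g c).bind fun mb => (f mb.1).map fun ra => (ra.1, ra.2 * mb.2)

/-- the values of a signed partial map on the indices `< 27` are `< 27`. -/
def e6c_bdd (g : ℕ → Option (ℕ × ℤ)) : Prop := ∀ c < 27, ∀ e, g c = some e → e.1 < 27

/-- the coefficient of the index `x` in the column described by `o`. -/
def e6c_coef (o : Option (ℕ × ℤ)) (x : ℕ) : ℤ :=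
  match o with
  | none => 0
  | some e => if e.1 = x then e.2 else 0

theorem e6c_spm_apply (f : ℕ → Option (ℕ × ℤ)) (row col : I27) :
    e6c_spm F f row col = ((e6c_coef (f (e6c_enc col)) (e6c_enc row) : ℤ) : F) := by
  unfold e6c_spm e6c_coef
  cases h : f (e6c_enc col) with
  | none => simp
  | some e =>
    by_cases he : e.1 = e6c_enc row
    · simp [he]
    · simp [he]

/-- the matrix only depends on the values on the indices `< 27`. -/
theorem e6c_spm_congr {f g : ℕ → Option (ℕ × ℤ)} (h : ∀ c < 27, f c = g c) : e6c_spm F f = e6c_spm F g := by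
  ext row col
  rw [e6c_spm_apply, e6c_spm_apply, h _ (e6c_enc_lt col)]

theorem e6c_spm_zero {f : ℕ → Option (ℕ × ℤ)} (h : ∀ c < 27, f c = none) : e6c_spm F f = 0 := by
  ext row col
  rw [e6c_spm_apply, h _ (e6c_enc_lt col)]
  simp [e6c_coef]

/-- a linear relation between three signed partial maps, checked on the coefficients. -/
theorem e6c_spm_rel {f g h : ℕ → Option (ℕ × ℤ)} {k : ℤ}
    (hk : ∀ c < 27, ∀ x < 27, e6c_coef (f c) x - e6c_coef (g c) x = k * e6c_coef (h c) x) :
    e6c_spm F f - e6c_spm F g = (k : F) • e6c_spm F h := by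
  ext row col
  rw [Matrix.sub_apply, Matrix.smul_apply, e6c_spm_apply, e6c_spm_apply, e6c_spm_apply, smul_eq_mul,
    ← Int.cast_sub, ← Int.cast_mul, hk _ (e6c_enc_lt col) _ (e6c_enc_lt row)]

/-- the product of the matrices is the matrix of the composition. -/
theorem e6c_spm_mul (f : ℕ → Option (ℕ × ℤ)) {g : ℕ → Option (ℕ × ℤ)} (hg : e6c_bdd g) :
    e6c_spm F f * e6c_spm F g = e6c_spm F (e6c_comp f g) := by
  ext row col
  rw [Matrix.mul_apply]
  simp only [e6c_spm_apply]
  unfold e6c_comp
  cases hgc : g (e6c_enc col) with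
  | none =>
    simp [e6c_coef]
  | some mb =>
    have hm : mb.1 < 27 := hg _ (e6c_enc_lt col) _ hgc
    rw [Finset.sum_eq_single (e6c_dec mb.1)]
    · rw [e6c_enc_dec _ hm]
      cases hfm : f mb.1 with
      | none => simp [e6c_coef, hfm]
      | some ra =>
        by_cases hr : ra.1 = e6c_enc row
        · simp [e6c_coef, hr, hfm]
        · simp [e6c_coef, hr, hfm]
    · intro mid _ hmid
      have : mb.1 ≠ e6c_enc mid := by
        intro e
        apply hmid
        rw [← e6c_dec_enc mid, ← e]
      simp [e6c_coef, this]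
    · intro h
      exact absurd (Finset.mem_univ _) h

theorem e6c_comp_bdd {f g : ℕ → Option (ℕ × ℤ)} (hf : e6c_bdd f) (hg : e6c_bdd g) : e6c_bdd (e6c_comp f g) := by
  intro c hc e he
  unfold e6c_comp at he
  cases hgc : g c with
  | none => rw [hgc] at he; simp at he
  | some mb =>
    rw [hgc] at he
    simp only [Option.bind_some, Option.map_eq_some_iff] at he
    obtain ⟨ra, hra, rfl⟩ := he
    exact hf _ (hg _ hc _ hgc) ra hra

/-- `f'` is the transposed map of `f`. -/
def e6c_tr (f f' : ℕ → Option (ℕ × ℤ)) : Prop :=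
  ∀ c < 27, ∀ x < 27, ∀ ε : ℤ, f c = some (x, ε) ↔ f' x = some (c, ε)

/-- the action on a basis vector. -/
theorem e6c_spm_mulVec_e {F : Type*} [CommRing F] (f : ℕ → Option (ℕ × ℤ)) {c : ℕ} (hc : c < 27) :
    e6c_spm F f *ᵥ e6c_e F c = fun x => ((e6c_coef (f c) (e6c_enc x) : ℤ) : F) := by
  ext x
  unfold e6c_e
  rw [Matrix.mulVec_single_one, Matrix.col_apply, e6c_spm_apply, e6c_enc_dec _ hc]

/-- the coordinates of the image of a vector, through the transposed map. -/
theorem e6c_spm_mulVec {F : Type*} [CommRing F] {f f' : ℕ → Option (ℕ × ℤ)} (hf : e6c_bdd f) (hf' : e6c_bdd f')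
    (htr : e6c_tr f f') (v : I27 → F) (x : I27) :
    (e6c_spm F f *ᵥ v) x =
      match f' (e6c_enc x) with
      | none => 0
      | some e => ((e.2 : ℤ) : F) * v (e6c_dec e.1) := by
  rw [Matrix.mulVec, dotProduct]
  simp only [e6c_spm_apply]
  cases hx : f' (e6c_enc x) with
  | none =>
    apply Finset.sum_eq_zero
    intro col _
    have : e6c_coef (f (e6c_enc col)) (e6c_enc x) = 0 := by
      unfold e6c_coef
      cases hc : f (e6c_enc col) with
      | none => rfl
      | some e =>
        by_cases he : e.1 = e6c_enc x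
        · exfalso
          have h1 : f (e6c_enc col) = some (e6c_enc x, e.2) := by rw [hc, ← he]
          have h2 := (htr _ (e6c_enc_lt col) _ (e6c_enc_lt x) e.2).mp h1
          rw [hx] at h2
          exact Option.some_ne_none _ h2.symm
        · simp [he]
    rw [this]; simp
  | some e =>
    have hlt : e.1 < 27 := hf' _ (e6c_enc_lt x) _ hx
    have h1 : f e.1 = some (e6c_enc x, e.2) := (htr _ hlt _ (e6c_enc_lt x) e.2).mpr hx
    rw [Finset.sum_eq_single (e6c_dec e.1)]
    · rw [e6c_enc_dec _ hlt, h1]
      simp [e6c_coef]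
    · intro col _ hcol
      have : e6c_coef (f (e6c_enc col)) (e6c_enc x) = 0 := by
        unfold e6c_coef
        cases hc : f (e6c_enc col) with
        | none => rfl
        | some e' =>
          by_cases he : e'.1 = e6c_enc x
          · exfalso
            have h3 : f (e6c_enc col) = some (e6c_enc x, e'.2) := by rw [hc, ← he]
            have h4 := (htr _ (e6c_enc_lt col) _ (e6c_enc_lt x) e'.2).mp h3
            rw [hx] at h4
            have h5 : e.1 = e6c_enc col := by
              have := Option.some.inj h4
              exact congrArg Prod.fst this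
            apply hcol
            rw [h5, e6c_dec_enc]
          · simp [he]
      rw [this]; simp
    · intro h
      exact absurd (Finset.mem_univ _) h

end Cfsg.Agent.E6C
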