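import Mathlib
import Cfsg.Agent.E6C.Spm
import Cfsg.Agent.Helper7.ChevTwE6

set_option autoImplicit false
set_option linter.unusedSectionVars false
set_option linter.unusedVariables false

/-!
# S1084: the facts on the tables of the 27-dimensional module (file `Cfsg/Agent/E6C/TabFacts.lean`, helper7)

All by `decide +kernel`: bounds, `E_r² = 0`, `E_r E_s E_r = 0` (`s ≠ ±r`), `E_r E_{-r} E_r = E_r`, `E_{-r} = E_rᵀ`,
`[E_r, E_s] = N_rs E_{r+s}` with the structure constants of the Prelude's `chevE6` (through `fastE6.commTerms`).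
-/

namespace Cfsg.Agent.E6C

open Cfsg Cfsg.Lie Matrix Cfsg.Agent.Helper7.Chev

set_option maxRecDepth 1000000 in
set_option maxHeartbeats 0 in
theorem e6c_tab_bdd : ∀ r < 72, ∀ c < 27, ∀ e ∈ e6c_step r c, e.1 < 27 := by decide +kernel

set_option maxRecDepth 1000000 in
set_option maxHeartbeats 0 in
theorem e6c_tab_sq : ∀ r < 72, ∀ c < 27, e6c_comp (e6c_step r) (e6c_step r) c = none := by decide +kernel

set_option maxRecDepth 1000000 in
set_option maxHeartbeats 0 in
theorem e6c_tab_tr : ∀ r < 72, ∀ c < 27, ∀ e ∈ e6c_step r c, e6c_step (71 - r) e.1 = some (c, e.2) := by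
  decide +kernel

set_option maxRecDepth 1000000 in
set_option maxHeartbeats 0 in
theorem e6c_tab_aba : ∀ r < 72, ∀ c < 27,
    e6c_comp (e6c_step r) (e6c_comp (e6c_step (71 - r)) (e6c_step r)) c = e6c_step r c := by decide +kernel

set_option maxRecDepth 1000000 in
set_option maxHeartbeats 0 in
theorem e6c_tab_rsr : ∀ r < 72, ∀ s < 72, s ≠ r → s ≠ 71 - r → ∀ c < 27,
    e6c_comp (e6c_step r) (e6c_comp (e6c_step s) (e6c_step r)) c = none := by decide +kernel

/-- the relation `col₁ - col₂ = k • col₃` between three columns, checked on the rows which occur. -/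
def e6c_relChk (o1 o2 o3 : Option (ℕ × ℤ)) (k : ℤ) : Bool :=
  (o1.toList ++ o2.toList ++ o3.toList).all fun e =>
    decide (e6c_coef o1 e.1 - e6c_coef o2 e.1 = k * e6c_coef o3 e.1)

theorem e6c_coef_eq_zero {o : Option (ℕ × ℤ)} {x : ℕ} (h : ∀ e ∈ o.toList, e.1 ≠ x) : e6c_coef o x = 0 := by
  unfold e6c_coef
  cases o with
  | none => rfl
  | some e =>
    have : e.1 ≠ x := h e (by simp)
    simp [this]

theorem e6c_relChk_sound {o1 o2 o3 : Option (ℕ × ℤ)} {k : ℤ} (h : e6c_relChk o1 o2 o3 k = true) (x : ℕ) :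
    e6c_coef o1 x - e6c_coef o2 x = k * e6c_coef o3 x := by
  unfold e6c_relChk at h
  rw [List.all_eq_true] at h
  by_cases hx : ∃ e ∈ o1.toList ++ o2.toList ++ o3.toList, e.1 = x
  · obtain ⟨e, he, rfl⟩ := hx
    exact of_decide_eq_true (h e he)
  · have hx' : ∀ e ∈ o1.toList ++ o2.toList ++ o3.toList, e.1 ≠ x := fun e he h' => hx ⟨e, he, h'⟩
    rw [e6c_coef_eq_zero (o := o1) fun e he => hx' e (by simp [he]),
      e6c_coef_eq_zero (o := o2) fun e he => hx' e (by simp [he]),
      e6c_coef_eq_zero (o := o3) fun e he => hx' e (by simp [he])]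
    ring

/-- the check of the commutator relation of the pair `(r, s)` against the commutator formula of the Prelude. -/
def e6c_commChk (r s : ℕ) : Bool :=
  match fastE6.commTerms r s with
  | [] => (List.range 27).all fun c =>
      e6c_relChk (e6c_comp (e6c_step r) (e6c_step s) c) (e6c_comp (e6c_step s) (e6c_step r) c) none 0
  | [(q, k, 1, 1)] => (List.range 27).all fun c =>
      e6c_relChk (e6c_comp (e6c_step r) (e6c_step s) c) (e6c_comp (e6c_step s) (e6c_step r) c) (e6c_step q c) k
  | _ => false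

set_option maxRecDepth 1000000 in
set_option maxHeartbeats 0 in
theorem e6c_tab_comm : ∀ r < 72, ∀ s < 72, s ≠ r → s ≠ 71 - r → e6c_commChk r s = true := by decide +kernel

end Cfsg.Agent.E6C
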