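import Mathlib
import Cfsg.Agent.E6C.TabFacts
import Cfsg.Agent.E6C.RootAlg
import Cfsg.Prelude.Def_Steinberg

set_option autoImplicit false
set_option linter.unusedSectionVars false
set_option linter.unusedVariables false

/-!
# S1084: the root elements `X_r(t) = 1 + t E_r` of the 27-dimensional module (file `Cfsg/Agent/E6C/Root.lean`, helper7)

The relations between the `E_r` as matrix identities over any field, the elements `e6c_X r t : GL I27 F`, the group `e6c_G0 F` they
generate, and the homomorphism `e6c_phi : chevE6.SteinbergGroup F →* GL I27 F` with `e6c_phi (stGen r t) = e6c_X r t`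
(`e6c_phi_range : range = e6c_G0 F`).
-/

namespace Cfsg.Agent.E6C

open Cfsg Cfsg.Lie Matrix Cfsg.Agent.Helper7.Chev

variable {F : Type*} [Field F]

theorem e6c_step_bdd {r : ℕ} (hr : r < 72) : e6c_bdd (e6c_step r) :=
  fun c hc e he => e6c_tab_bdd r hr c hc e he

theorem e6c_step_ge {r : ℕ} (hr : ¬ r < 72) (c : ℕ) : e6c_step r c = none := by
  unfold e6c_step
  have : e6c_act.getD r [] = [] := by
    rw [List.getD_eq_getElem?_getD, List.getElem?_eq_none]
    · rfl
    · have : e6c_act.length = 72 := by decide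
      omega
  rw [this]
  rfl

theorem e6c_step_tr {r : ℕ} (hr : r < 72) : e6c_tr (e6c_step r) (e6c_step (71 - r)) := by
  intro c hc x hx ε
  constructor
  · intro h
    exact e6c_tab_tr r hr c hc (x, ε) h
  · intro h
    have h1 := e6c_tab_tr (71 - r) (by omega) x hx (c, ε) h
    have : 71 - (71 - r) = r := by omega
    rw [this] at h1
    exact h1

theorem e6c_E_sq (r : ℕ) : e6c_E F r * e6c_E F r = 0 := by
  unfold e6c_E
  by_cases hr : r < 72
  · rw [e6c_spm_mul _ (e6c_step_bdd hr)]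
    exact e6c_spm_zero (e6c_tab_sq r hr)
  · rw [e6c_spm_zero (f := e6c_step r) (fun c _ => e6c_step_ge hr c), mul_zero]

theorem e6c_E_rsr {r s : ℕ} (hr : r < 72) (hs : s < 72) (hsr : s ≠ r) (hsn : s ≠ 71 - r) :
    e6c_E F r * e6c_E F s * e6c_E F r = 0 := by
  unfold e6c_E
  rw [mul_assoc, e6c_spm_mul _ (e6c_step_bdd hr),
    e6c_spm_mul _ (e6c_comp_bdd (e6c_step_bdd hs) (e6c_step_bdd hr))]
  exact e6c_spm_zero (e6c_tab_rsr r hr s hs hsr hsn)

theorem e6c_E_aba {r : ℕ} (hr : r < 72) : e6c_E F r * e6c_E F (71 - r) * e6c_E F r = e6c_E F r := by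
  unfold e6c_E
  rw [mul_assoc, e6c_spm_mul _ (e6c_step_bdd hr),
    e6c_spm_mul _ (e6c_comp_bdd (e6c_step_bdd (by omega : 71 - r < 72)) (e6c_step_bdd hr))]
  exact e6c_spm_congr (e6c_tab_aba r hr)

/-- the commutator relations, in terms of the commutator formula of the Prelude. -/
theorem e6c_E_comm {r s : ℕ} (hr : r < 72) (hs : s < 72) (hsr : s ≠ r) (hsn : s ≠ 71 - r) :
    (chevE6.commTerms r s = [] ∧ e6c_E F r * e6c_E F s - e6c_E F s * e6c_E F r = 0) ∨
      ∃ q k, chevE6.commTerms r s = [(q, k, 1, 1)] ∧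
        e6c_E F r * e6c_E F s - e6c_E F s * e6c_E F r = ((k : ℤ) : F) • e6c_E F q := by
  have h := e6c_tab_comm r hr s hs hsr hsn
  have hct : chevE6.commTerms r s = fastE6.commTerms r s := by rw [← commTerms_eq, tab_E6]
  unfold e6c_commChk at h
  unfold e6c_E
  rw [e6c_spm_mul _ (e6c_step_bdd hs), e6c_spm_mul _ (e6c_step_bdd hr)]
  split at h
  · rename_i heq
    left
    refine ⟨by rw [hct, heq], ?_⟩
    rw [List.all_eq_true] at h
    have := e6c_spm_rel (F := F) (f := e6c_comp (e6c_step r) (e6c_step s)) (g := e6c_comp (e6c_step s) (e6c_step r))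
      (h := fun _ => none) (k := 0)
      (fun c hc x _ => e6c_relChk_sound (h c (List.mem_range.mpr hc)) x)
    rw [this, Int.cast_zero, zero_smul]
  · rename_i q k heq
    right
    refine ⟨q, k, by rw [hct, heq], ?_⟩
    rw [List.all_eq_true] at h
    exact e6c_spm_rel (fun c hc x _ => e6c_relChk_sound (h c (List.mem_range.mpr hc)) x)
  · exact absurd h (by simp)

/-! ### the root elements -/

theorem e6c_XM_zero (r : ℕ) : e6c_XM F r 0 = 1 := by
  unfold e6c_XM
  rw [zero_smul, add_zero]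

theorem e6c_XM_add (r : ℕ) (t u : F) : e6c_XM F r t * e6c_XM F r u = e6c_XM F r (t + u) := by
  unfold e6c_XM
  rw [e6c_alg_add (by rw [smul_mul_smul_comm, e6c_E_sq, smul_zero]), add_smul]

/-- the root element `X_r(t)`. -/
def e6c_X (r : ℕ) (t : F) : GL I27 F :=
  ⟨e6c_XM F r t, e6c_XM F r (-t), by rw [e6c_XM_add, add_neg_cancel, e6c_XM_zero],
    by rw [e6c_XM_add, neg_add_cancel, e6c_XM_zero]⟩

@[simp] theorem e6c_X_coe (r : ℕ) (t : F) : ((e6c_X r t : GL I27 F) : Matrix I27 I27 F) = e6c_XM F r t := rfl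

theorem e6c_X_add (r : ℕ) (t u : F) : e6c_X r t * e6c_X r u = e6c_X r (t + u) := by
  apply Units.ext
  rw [Units.val_mul, e6c_X_coe, e6c_X_coe, e6c_X_coe, e6c_XM_add]

theorem e6c_X_zero (r : ℕ) : e6c_X r (0 : F) = 1 := by
  apply Units.ext
  rw [e6c_X_coe, e6c_XM_zero]
  rfl

theorem e6c_X_inv (r : ℕ) (t : F) : (e6c_X r t)⁻¹ = e6c_X r (-t) := by
  rw [inv_eq_iff_mul_eq_one, e6c_X_add, add_neg_cancel, e6c_X_zero]

theorem e6c_X_ge {r : ℕ} (hr : ¬ r < 72) (t : F) : e6c_X r t = 1 := by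
  apply Units.ext
  rw [e6c_X_coe]
  unfold e6c_XM e6c_E
  rw [e6c_spm_zero (f := e6c_step r) (fun c _ => e6c_step_ge hr c), smul_zero, add_zero]
  rfl

/-- the group generated by the root elements. -/
def e6c_G0 (F : Type*) [Field F] : Subgroup (GL I27 F) :=
  Subgroup.closure {g | ∃ (r : ℕ) (t : F), r < 72 ∧ g = e6c_X r t}

theorem e6c_X_mem_G0 (r : ℕ) (t : F) : e6c_X r t ∈ e6c_G0 F := by
  by_cases hr : r < 72
  · exact Subgroup.subset_closure ⟨r, t, hr, rfl⟩
  · rw [e6c_X_ge hr]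
    exact one_mem _

end Cfsg.Agent.E6C
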