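import Mathlib
import Cfsg.Agent.E6C.Root

set_option autoImplicit false
set_option linter.unusedSectionVars false
set_option linter.unusedVariables false

/-!
# S1084: the homomorphism from the Steinberg group of type `E₆` to `GL I27 F` (file `Cfsg/Agent/E6C/Phi.lean`, helper7)

`e6c_phi : chevE6.SteinbergGroup F →* GL I27 F`, `e6c_phi_x : e6c_phi (chevE6.stGen F r t) = e6c_X r t`,
`e6c_phi_range : e6c_phi.range = e6c_G0 F`.  The torus matrices `e6c_HM F r t = 1 - AB - BA + t•AB + t⁻¹•BA` (`A = E_r`, `B = E_{-r}`).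
-/

namespace Cfsg.Agent.E6C

open Cfsg Cfsg.Lie Matrix Cfsg.Agent.Helper7.Chev

variable {F : Type*} [Field F]

theorem e6c_nroots : chevE6.nroots = 72 := rfl

set_option maxRecDepth 1000000 in
theorem e6c_neg : ∀ r < 72, chevE6.neg r = 71 - r := by decide +kernel

/-- the images of the generators of the free group. -/
noncomputable def e6c_liftY : FreeGroup (Fin chevE6.nroots × F) →* GL I27 F :=
  FreeGroup.lift fun p => e6c_X p.1.val p.2

theorem e6c_liftY_stX (r : ℕ) (t : F) : e6c_liftY (chevE6.stX r t) = e6c_X r t := by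
  unfold ChevalleyDatum.stX e6c_liftY
  by_cases hr : r < chevE6.nroots
  · rw [dif_pos hr, FreeGroup.lift_apply_of]
  · rw [dif_neg hr, map_one, e6c_X_ge (by rw [← e6c_nroots]; exact hr)]

theorem e6c_liftY_stWord (w : List (ℕ × F)) :
    e6c_liftY (chevE6.stWord w) = (w.map fun p => e6c_X p.1 p.2).prod := by
  unfold ChevalleyDatum.stWord
  rw [map_list_prod, List.map_map]
  congr 1
  apply List.map_congr_left
  intro p _
  exact e6c_liftY_stX p.1 p.2

/-- the commutator relation between root elements. -/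
theorem e6c_X_comm {r s : ℕ} (hr : r < 72) (hs : s < 72) (hsr : s ≠ r) (hsn : s ≠ 71 - r) (t u : F) :
    (e6c_X s u)⁻¹ * (e6c_X r t)⁻¹ * e6c_X s u * e6c_X r t =
      ((chevE6.commWord F r s t u).map fun p => e6c_X p.1 p.2).prod := by
  have hrs : r ≠ s := fun h => hsr h.symm
  have hrn : r ≠ 71 - s := by omega
  set A : Matrix I27 I27 F := t • e6c_E F r with hA
  set B : Matrix I27 I27 F := u • e6c_E F s with hB
  have hAA : A * A = 0 := by rw [hA, smul_mul_smul_comm, e6c_E_sq, smul_zero]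
  have hBB : B * B = 0 := by rw [hB, smul_mul_smul_comm, e6c_E_sq, smul_zero]
  have hABA : A * B * A = 0 := by
    rw [hA, hB, smul_mul_smul_comm, smul_mul_smul_comm, e6c_E_rsr hr hs hsr hsn, smul_zero]
  have hBAB : B * A * B = 0 := by
    rw [hA, hB, smul_mul_smul_comm, smul_mul_smul_comm, e6c_E_rsr hs hr hrs hrn, smul_zero]
  have key := e6c_alg_comm hAA hBB hABA hBAB
  have hAB : A * B - B * A = (t * u) • (e6c_E F r * e6c_E F s - e6c_E F s * e6c_E F r) := by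
    rw [hA, hB, smul_mul_smul_comm, smul_mul_smul_comm, smul_sub, mul_comm u t]
  rw [e6c_X_inv, e6c_X_inv]
  apply Units.ext
  rw [Units.val_mul, Units.val_mul, Units.val_mul, e6c_X_coe, e6c_X_coe, e6c_X_coe, e6c_X_coe]
  have e1 : e6c_XM F s (-u) = 1 - B := by unfold e6c_XM; rw [hB, neg_smul, sub_eq_add_neg]
  have e2 : e6c_XM F r (-t) = 1 - A := by unfold e6c_XM; rw [hA, neg_smul, sub_eq_add_neg]
  have e3 : e6c_XM F s u = 1 + B := rfl
  have e4 : e6c_XM F r t = 1 + A := rfl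
  rw [e1, e2, e3, e4, key, hAB]
  unfold ChevalleyDatum.commWord
  rcases e6c_E_comm (F := F) hr hs hsr hsn with ⟨hct, h0⟩ | ⟨q, k, hct, hk⟩
  · rw [hct, h0, smul_zero, sub_zero]
    rfl
  · rw [hct, hk]
    simp only [List.map_cons, List.map_nil, List.prod_cons, List.prod_nil, mul_one, e6c_X_coe]
    unfold e6c_XM
    rw [smul_smul, sub_eq_add_neg, ← neg_smul]
    congr 2
    ring

/-- the torus matrices. -/
def e6c_HM (F : Type*) [Field F] (r : ℕ) (t : F) : Matrix I27 I27 F :=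
  1 - e6c_E F r * e6c_E F (71 - r) - e6c_E F (71 - r) * e6c_E F r + t • (e6c_E F r * e6c_E F (71 - r)) +
    t⁻¹ • (e6c_E F (71 - r) * e6c_E F r)

theorem e6c_rel_A {r : ℕ} (hr : r < 72) :
    e6c_E F r * e6c_E F r = 0 ∧ e6c_E F (71 - r) * e6c_E F (71 - r) = 0 ∧
      e6c_E F r * e6c_E F (71 - r) * e6c_E F r = e6c_E F r ∧
      e6c_E F (71 - r) * e6c_E F r * e6c_E F (71 - r) = e6c_E F (71 - r) := by
  refine ⟨e6c_E_sq r, e6c_E_sq _, e6c_E_aba hr, ?_⟩
  have := e6c_E_aba (F := F) (by omega : 71 - r < 72)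
  have e : 71 - (71 - r) = r := by omega
  rw [e] at this
  exact this

/-- the matrix of `h_r(t) = n_r(t) n_r(-1)`. -/
theorem e6c_hWord_coe {r : ℕ} (hr : r < 72) {t : F} (ht : t ≠ 0) :
    ((((chevE6.hWord r t).map fun p => e6c_X p.1 p.2).prod : GL I27 F) : Matrix I27 I27 F) = e6c_HM F r t := by
  obtain ⟨hAA, hBB, hABA, hBAB⟩ := e6c_rel_A (F := F) hr
  unfold ChevalleyDatum.hWord ChevalleyDatum.nWord
  rw [e6c_neg r hr]
  simp only [List.cons_append, List.nil_append, List.map_cons, List.map_nil, List.prod_cons, List.prod_nil,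
    mul_one, Units.val_mul, e6c_X_coe]
  have h1 : (-1 : F) ≠ 0 := by norm_num
  have n1 := e6c_alg_n (F := F) hAA hBB hABA hBAB ht
  have n2 := e6c_alg_n (F := F) hAA hBB hABA hBAB h1
  have hh := e6c_alg_h (F := F) hAA hBB hABA hBAB ht
  unfold e6c_XM e6c_HM
  rw [← mul_assoc, ← mul_assoc, ← mul_assoc, ← mul_assoc]
  have e1 : (1 + t • e6c_E F r) * (1 + (-t⁻¹) • e6c_E F (71 - r)) * (1 + t • e6c_E F r) =
      1 + t • e6c_E F r - t⁻¹ • e6c_E F (71 - r) - e6c_E F r * e6c_E F (71 - r) -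
        e6c_E F (71 - r) * e6c_E F r := by
    have hb : (1 : Matrix I27 I27 F) + (-t⁻¹) • e6c_E F (71 - r) = 1 - t⁻¹ • e6c_E F (71 - r) := by
      rw [show (-t⁻¹) • e6c_E F (71 - r) = -(t⁻¹ • e6c_E F (71 - r)) from neg_smul _ _, sub_eq_add_neg]
    rw [hb, n1]
  have e2 : (1 + (-1 : F) • e6c_E F r) * (1 + (-(-1 : F)⁻¹) • e6c_E F (71 - r)) * (1 + (-1 : F) • e6c_E F r) =
      1 - e6c_E F r + e6c_E F (71 - r) - e6c_E F r * e6c_E F (71 - r) - e6c_E F (71 - r) * e6c_E F r := by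
    have hb : (1 : Matrix I27 I27 F) + (-(-1 : F)⁻¹) • e6c_E F (71 - r) =
        1 - (-1 : F)⁻¹ • e6c_E F (71 - r) := by
      rw [show (-(-1 : F)⁻¹) • e6c_E F (71 - r) = -((-1 : F)⁻¹ • e6c_E F (71 - r)) from neg_smul _ _,
        sub_eq_add_neg]
    rw [hb, n2]
    simp only [neg_smul, one_smul, inv_neg, inv_one, sub_neg_eq_add]
    abel
  have e3 : (1 + t • e6c_E F r) * (1 + (-t⁻¹) • e6c_E F (71 - r)) * (1 + t • e6c_E F r) *
      (1 + (-1 : F) • e6c_E F r) * (1 + (-(-1 : F)⁻¹) • e6c_E F (71 - r)) * (1 + (-1 : F) • e6c_E F r) =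
      ((1 + t • e6c_E F r) * (1 + (-t⁻¹) • e6c_E F (71 - r)) * (1 + t • e6c_E F r)) *
      ((1 + (-1 : F) • e6c_E F r) * (1 + (-(-1 : F)⁻¹) • e6c_E F (71 - r)) * (1 + (-1 : F) • e6c_E F r)) := by
    simp only [mul_assoc]
  rw [e3, e1, e2, hh]

theorem e6c_HM_mul {r : ℕ} (hr : r < 72) (t u : F) : e6c_HM F r t * e6c_HM F r u = e6c_HM F r (t * u) := by
  obtain ⟨hAA, hBB, hABA, hBAB⟩ := e6c_rel_A (F := F) hr
  exact e6c_alg_hh hAA hBB hABA hBAB t u

theorem e6c_liftY_stH {r : ℕ} (hr : r < 72) {t : F} (ht : t ≠ 0) :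
    ((e6c_liftY (chevE6.stH r t) : GL I27 F) : Matrix I27 I27 F) = e6c_HM F r t := by
  unfold ChevalleyDatum.stH
  rw [e6c_liftY_stWord, e6c_hWord_coe hr ht]

/-- the relators of Steinberg's presentation hold. -/
theorem e6c_liftY_rels {g : FreeGroup (Fin chevE6.nroots × F)} (hg : g ∈ chevE6.steinbergRels F) :
    e6c_liftY g = 1 := by
  rcases hg with (⟨r, t₁, t₂, hr, rfl⟩ | ⟨r, s, t, u, hr, hs, hsr, hsn, rfl⟩) | ⟨r, t₁, t₂, hr, ht₁, ht₂, rfl⟩
  · rw [map_mul, map_mul, map_inv, e6c_liftY_stX, e6c_liftY_stX, e6c_liftY_stX, e6c_X_add, mul_inv_cancel]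
  · have hr' : r < 72 := hr
    have hs' : s < 72 := hs
    have hsn' : s ≠ 71 - r := by rw [← e6c_neg r hr']; exact hsn
    rw [map_mul, map_mul, map_mul, map_mul, map_inv, map_inv, map_inv, e6c_liftY_stX, e6c_liftY_stX,
      e6c_liftY_stWord, mul_inv_eq_one]
    exact e6c_X_comm hr' hs' hsr hsn' t u
  · have hr' : r < 72 := hr
    rw [map_mul, map_mul, map_inv, mul_inv_eq_one]
    apply Units.ext
    rw [Units.val_mul, e6c_liftY_stH hr' ht₁, e6c_liftY_stH hr' ht₂, e6c_liftY_stH hr' (mul_ne_zero ht₁ ht₂),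
      e6c_HM_mul hr']

/-- **the homomorphism from the Steinberg group.** -/
noncomputable def e6c_phi : chevE6.SteinbergGroup F →* GL I27 F :=
  PresentedGroup.toGroup (f := fun p => e6c_X p.1.val p.2)
    (fun g hg => by have := e6c_liftY_rels hg; unfold e6c_liftY at this; exact this)

theorem e6c_phi_of (p : Fin chevE6.nroots × F) : e6c_phi (PresentedGroup.of p) = e6c_X p.1.val p.2 := by
  unfold e6c_phi
  exact PresentedGroup.toGroup.of _

theorem e6c_phi_x (r : ℕ) (t : F) : e6c_phi (chevE6.stGen F r t) = e6c_X r t := by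
  unfold ChevalleyDatum.stGen ChevalleyDatum.stX
  by_cases hr : r < chevE6.nroots
  · rw [dif_pos hr]
    exact e6c_phi_of (⟨r, hr⟩, t)
  · rw [dif_neg hr, e6c_X_ge (by rw [← e6c_nroots]; exact hr)]
    exact map_one _

theorem e6c_phi_range : (e6c_phi (F := F)).range = e6c_G0 F := by
  rw [MonoidHom.range_eq_map, ← PresentedGroup.closure_range_of, MonoidHom.map_closure]
  unfold e6c_G0
  congr 1
  ext g
  constructor
  · rintro ⟨x, ⟨⟨r, t⟩, rfl⟩, rfl⟩
    exact ⟨r.val, t, r.2, by rw [e6c_phi_of]⟩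
  · rintro ⟨r, t, hr, rfl⟩
    exact ⟨PresentedGroup.of (⟨r, hr⟩, t), ⟨(⟨r, hr⟩, t), rfl⟩, by rw [e6c_phi_of]⟩

end Cfsg.Agent.E6C
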