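import Mathlib
import Cfsg.Agent.E6C.Phi

set_option autoImplicit false
set_option linter.unusedSectionVars false
set_option linter.unusedVariables false

/-!
# S1084: the torus elements `h_r(t)` on the 27-dimensional module (file `Cfsg/Agent/E6C/Tor.lean`, helper7)

`e6c_H r t : GL I27 F` is the product of the word `h_r(t) = n_r(t) n_r(-1)` in the root elements, it lies in `e6c_G0 F`, and for `t ≠ 0` it
acts diagonally: the coordinate `x` is multiplied by `t` if `x - r` is a weight (`⟨x, r^∨⟩ = 1`), by `t⁻¹` if `x + r` is a weight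
(`⟨x, r^∨⟩ = -1`), and is unchanged otherwise (`e6c_H_mulVec`).  `e6c_pp r c`, `e6c_pm r c : Bool` are these two conditions.
-/

namespace Cfsg.Agent.E6C

open Cfsg Cfsg.Lie Matrix Cfsg.Agent.Helper7.Chev

variable {F : Type*} [Field F]

/-- `c - r` is a weight, that is `⟨c, r^∨⟩ = 1`. -/
def e6c_pp (r c : ℕ) : Bool := (e6c_step (71 - r) c).isSome

/-- `c + r` is a weight, that is `⟨c, r^∨⟩ = -1`. -/
def e6c_pm (r c : ℕ) : Bool := (e6c_step r c).isSome

set_option maxRecDepth 1000000 in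
set_option maxHeartbeats 0 in
theorem e6c_tab_AB : ∀ r < 72, ∀ c < 27,
    e6c_comp (e6c_step r) (e6c_step (71 - r)) c = if e6c_pp r c then some (c, 1) else none := by decide +kernel

set_option maxRecDepth 1000000 in
set_option maxHeartbeats 0 in
theorem e6c_tab_BA : ∀ r < 72, ∀ c < 27,
    e6c_comp (e6c_step (71 - r)) (e6c_step r) c = if e6c_pm r c then some (c, 1) else none := by decide +kernel

set_option maxRecDepth 1000000 in
set_option maxHeartbeats 0 in
theorem e6c_tab_pp_pm : ∀ r < 72, ∀ c < 27, ¬ (e6c_pp r c = true ∧ e6c_pm r c = true) := by decide +kernel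

/-- the action of a diagonal signed partial map. -/
theorem e6c_spm_diag {f : ℕ → Option (ℕ × ℤ)} {p : ℕ → Bool}
    (h : ∀ c < 27, f c = if p c then some (c, 1) else none) (v : I27 → F) (x : I27) :
    (e6c_spm F f *ᵥ v) x = if p (e6c_enc x) then v x else 0 := by
  rw [Matrix.mulVec, dotProduct, Finset.sum_eq_single x]
  · rw [e6c_spm_apply, h _ (e6c_enc_lt x)]
    by_cases hp : p (e6c_enc x) = true
    · simp [hp, e6c_coef]
    · simp [hp, e6c_coef]
  · intro col _ hcol
    rw [e6c_spm_apply, h _ (e6c_enc_lt col)]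
    have : e6c_enc col ≠ e6c_enc x := fun e => hcol (e6c_enc_inj e)
    by_cases hp : p (e6c_enc col) = true
    · simp [hp, e6c_coef, this]
    · simp [hp, e6c_coef]
  · intro h'
    exact absurd (Finset.mem_univ _) h'

/-- the diagonal action of the torus matrices. -/
theorem e6c_HM_mulVec {r : ℕ} (hr : r < 72) (t : F) (v : I27 → F) (x : I27) :
    (e6c_HM F r t *ᵥ v) x =
      (if e6c_pp r (e6c_enc x) then t else if e6c_pm r (e6c_enc x) then t⁻¹ else 1) * v x := by
  have hr' : 71 - r < 72 := by omega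
  have hAB : e6c_E F r * e6c_E F (71 - r) = e6c_spm F (e6c_comp (e6c_step r) (e6c_step (71 - r))) :=
    e6c_spm_mul _ (e6c_step_bdd hr')
  have hBA : e6c_E F (71 - r) * e6c_E F r = e6c_spm F (e6c_comp (e6c_step (71 - r)) (e6c_step r)) :=
    e6c_spm_mul _ (e6c_step_bdd hr)
  unfold e6c_HM
  rw [hAB, hBA]
  simp only [Matrix.add_mulVec, Matrix.sub_mulVec, Matrix.smul_mulVec, Matrix.one_mulVec, Pi.add_apply,
    Pi.sub_apply, Pi.smul_apply, smul_eq_mul]
  rw [e6c_spm_diag (e6c_tab_AB r hr), e6c_spm_diag (e6c_tab_BA r hr)]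
  have hx := e6c_tab_pp_pm r hr _ (e6c_enc_lt x)
  by_cases h1 : e6c_pp r (e6c_enc x) = true
  · have h2 : e6c_pm r (e6c_enc x) = false := by
      by_contra h
      exact hx ⟨h1, by simpa using h⟩
    simp [h1, h2]
  · by_cases h2 : e6c_pm r (e6c_enc x) = true
    · simp [h1, h2]
    · simp [h1, h2]

/-- the torus element `h_r(t)`. -/
noncomputable def e6c_H (r : ℕ) (t : F) : GL I27 F := ((chevE6.hWord r t).map fun p => e6c_X p.1 p.2).prod

theorem e6c_H_mem_G0 (r : ℕ) (t : F) : e6c_H r t ∈ e6c_G0 F := by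
  unfold e6c_H
  apply Subgroup.list_prod_mem
  intro g hg
  rw [List.mem_map] at hg
  obtain ⟨p, _, rfl⟩ := hg
  exact e6c_X_mem_G0 _ _

theorem e6c_H_coe {r : ℕ} (hr : r < 72) {t : F} (ht : t ≠ 0) :
    ((e6c_H r t : GL I27 F) : Matrix I27 I27 F) = e6c_HM F r t := e6c_hWord_coe hr ht

/-- **the diagonal action of the torus elements.** -/
theorem e6c_H_mulVec {r : ℕ} (hr : r < 72) {t : F} (ht : t ≠ 0) (v : I27 → F) (x : I27) :
    (((e6c_H r t : GL I27 F) : Matrix I27 I27 F) *ᵥ v) x =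
      (if e6c_pp r (e6c_enc x) then t else if e6c_pm r (e6c_enc x) then t⁻¹ else 1) * v x := by
  rw [e6c_H_coe hr ht, e6c_HM_mulVec hr]

/-- the coordinates of the image of a vector under a root element: `(X_r(t) v)_x = v_x + t ε v_c` if `x = c + r`. -/
theorem e6c_X_mulVec {r : ℕ} (hr : r < 72) (t : F) (v : I27 → F) (x : I27) :
    (((e6c_X r t : GL I27 F) : Matrix I27 I27 F) *ᵥ v) x =
      v x + t * (match e6c_step (71 - r) (e6c_enc x) with
        | none => 0
        | some e => ((e.2 : ℤ) : F) * v (e6c_dec e.1)) := by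
  rw [e6c_X_coe]
  unfold e6c_XM e6c_E
  rw [Matrix.add_mulVec, Matrix.one_mulVec, Matrix.smul_mulVec, Pi.add_apply, Pi.smul_apply, smul_eq_mul,
    e6c_spm_mulVec (e6c_step_bdd hr) (e6c_step_bdd (by omega : 71 - r < 72)) (e6c_step_tr hr)]
  rfl

/-- a root element fixes the basis vectors on which `E_r` vanishes. -/
theorem e6c_X_mulVec_e {r c : ℕ} (hc : c < 27) (h : e6c_step r c = none) (t : F) :
    ((e6c_X r t : GL I27 F) : Matrix I27 I27 F) *ᵥ e6c_e F c = e6c_e F c := by
  rw [e6c_X_coe]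
  unfold e6c_XM e6c_E
  rw [Matrix.add_mulVec, Matrix.one_mulVec, Matrix.smul_mulVec, e6c_spm_mulVec_e _ hc, h]
  ext x
  simp [e6c_coef]

end Cfsg.Agent.E6C
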