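import Mathlib
import Cfsg.Agent.E6C.Tor
import Cfsg.Agent.E6C.BStepA

set_option autoImplicit false
set_option linter.unusedSectionVars false
set_option linter.unusedVariables false

/-!
# S1084: the bridge from part A to the interface of part B (file `Cfsg/Agent/E6C/BBridge.lean`, helper7)

`e6c_bridge_hit`: the table `e6cb_ent` of part B is the table `e6c_act` of part A; `e6c_bridge_mulVec`: the action of the root elements in the
form of `e6cb_Roots.mulVec`; `e6c_roots hmem : e6cb_Roots F` and `e6c_roots_N : (e6c_roots hmem).N = e6c_G0 F`.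
-/

namespace Cfsg.Agent.E6C

open Cfsg Cfsg.Lie Matrix

variable {F : Type*} [Field F]

set_option maxRecDepth 1000000 in
set_option maxHeartbeats 0 in
theorem e6c_bridge_hit : ∀ r < 72, ∀ x : I27,
    e6cb_hit (e6cb_ent r) x = (e6c_step (71 - r) (e6c_enc x)).map fun e => (e6c_dec e.1, e.2) := by
  decide +kernel

theorem e6c_bridge_mulVec {r : ℕ} (hr : r < 72) (t : F) (w : I27 → F) :
    ((e6c_X r t : GL I27 F) : Matrix I27 I27 F) *ᵥ w = w + t • e6cb_delta (e6cb_ent r) w := by
  ext x
  rw [e6c_X_mulVec hr, Pi.add_apply, Pi.smul_apply, smul_eq_mul]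
  unfold e6cb_delta
  rw [e6c_bridge_hit r hr x]
  cases e6c_step (71 - r) (e6c_enc x) with
  | none => rfl
  | some e => rfl

/-- the root elements of part A as an instance of the interface of part B. -/
def e6c_roots (hmem : ∀ (r : ℕ) (t : F), r < 72 → e6c_X r t ∈ E6univ F) : e6cb_Roots F where
  X := e6c_X
  mem := hmem
  mulVec := fun r t hr w => e6c_bridge_mulVec hr t w

theorem e6c_roots_N (hmem : ∀ (r : ℕ) (t : F), r < 72 → e6c_X r t ∈ E6univ F) :
    (e6c_roots hmem).N = e6c_G0 F := rfl

end Cfsg.Agent.E6C
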