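import Mathlib
import Cfsg.Prelude.Def_E6
import Cfsg.Agent.E6C.BStepA

/-!
# S1084, package B1c: the zero rules and the pivot rules

For `g ∈ E6univ F` whose columns `K` are multiples of basis vectors, and `w = g e_c`:
* skew rule: `k ∈ K` skew to `c`, `κ x_k x_x x_d` a monomial ⇒ `w_x = 0`;
* hyperplane rule: `a, b ∈ K`, `κ x_a x_b x_x` a monomial ⇒ `(g y)_x = (g_aa g_bb)⁻¹ y_x` for all `y`;
* pivot rules: hyper, free (`w ≠ 0`) and incident.
-/

set_option autoImplicit false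

namespace Cfsg.Agent.E6C

open Cfsg.Lie
open scoped Matrix

/-- The sign is `±1`. -/
def e6cb_pm (κ : ℤ) : Bool := κ == 1 || κ == -1

theorem e6cb_pm_cases {κ : ℤ} (h : e6cb_pm κ = true) : κ = 1 ∨ κ = -1 := by
  simpa [e6cb_pm] using h

section

variable {F : Type*} [Field F]

theorem e6cb_pm_ne_zero {κ : ℤ} (h : e6cb_pm κ = true) : (κ : F) ≠ 0 := by
  rcases e6cb_pm_cases h with rfl | rfl <;> simp

theorem e6cb_pm_sq {κ : ℤ} (h : e6cb_pm κ = true) : (κ : F) * (κ : F) = 1 := by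
  rcases e6cb_pm_cases h with rfl | rfl <;> simp

/-- `k` and `c` lie in no common monomial. -/
def e6cb_skew (k c : I27) : Bool :=
  e6cb_all.all fun d => (e6cb_linList d k).all fun q => q.1 != c

theorem e6cb_sing_single (c : I27) : e6cb_sing (Pi.single c 1 : I27 → F) := fun d => e6cb_der_single d c

theorem e6cb_skew_sing {k c : I27} (h : e6cb_skew k c = true) (a : F) :
    e6cb_sing (a • (Pi.single k 1 : I27 → F) + Pi.single c 1) := by
  intro d
  rw [e6cb_der_smul_single_add, e6cb_der_single, zero_add]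
  have h0 : ((e6cb_linList d k).map fun q => (q.2 : F) * (Pi.single c 1 : I27 → F) q.1).sum = 0 := by
    apply List.sum_eq_zero
    intro y hy
    rw [List.mem_map] at hy
    obtain ⟨q, hq, rfl⟩ := hy
    unfold e6cb_skew at h
    rw [List.all_eq_true] at h
    have h1 := h d (e6cb_mem_all d)
    rw [List.all_eq_true] at h1
    have h2 := h1 q hq
    simp only [bne_iff_ne, ne_eq] at h2
    simp [Pi.single_apply, h2]
  rw [h0, mul_zero]

variable [Fintype F]

/-- The image of `a e_k + e_c` under `g`, when column `k` is a multiple of `e_k`. -/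
theorem e6cb_mulVec_pair {g : GL I27 F} {K : List I27} (hK : e6cb_colsOK g K) {k : I27} (hk : k ∈ K)
    (a : F) (c : I27) :
    (g : Matrix I27 I27 F) *ᵥ (a • (Pi.single k 1 : I27 → F) + Pi.single c 1) =
      (a * (g : Matrix I27 I27 F) k k) • (Pi.single k 1 : I27 → F) + e6cb_col g c := by
  rw [Matrix.mulVec_add, Matrix.mulVec_smul, ← e6cb_col_eq, ← e6cb_col_eq, e6cb_col_of_ok hK hk, smul_smul]

theorem e6cb_sing_col (hF : 3 ≤ Fintype.card F) {g : GL I27 F} (hg : g ∈ E6univ F) (c : I27) :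
    e6cb_sing (e6cb_col g c) := by
  rw [e6cb_col_eq]
  exact e6cb_sing_mulVec hF g hg _ (e6cb_sing_single c)

/-- **Skew rule.** -/
theorem e6cb_skew_rule (hF : 3 ≤ Fintype.card F) {g : GL I27 F} (hg : g ∈ E6univ F) {K : List I27}
    (hK : e6cb_colsOK g K) {k c d x : I27} {κ : ℤ} (hk : k ∈ K) (hsk : e6cb_skew k c = true)
    (hκ : e6cb_pm κ = true) (hl : e6cb_linList d k = [(x, κ)]) :
    (g : Matrix I27 I27 F) x c = 0 := by
  have hs := e6cb_sing_mulVec hF g hg _ (e6cb_skew_sing (F := F) hsk 1)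
  rw [e6cb_mulVec_pair hK hk] at hs
  have h1 := hs d
  rw [e6cb_der_smul_single_add, e6cb_sing_col hF hg c d, zero_add, hl] at h1
  simp only [List.map_cons, List.map_nil, List.sum_cons, List.sum_nil, add_zero, one_mul] at h1
  have hne : (g : Matrix I27 I27 F) k k ≠ 0 := e6cb_diag_ne_zero (hK k hk)
  have hκ0 : (κ : F) ≠ 0 := e6cb_pm_ne_zero hκ
  rcases mul_eq_zero.mp h1 with h2 | h2
  · exact absurd h2 hne
  · rcases mul_eq_zero.mp h2 with h3 | h3
    · exact absurd h3 hκ0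
    · exact h3

/-- Two indices lie in at most one monomial. -/
theorem e6cb_linList_unique : ∀ x ∈ e6cb_all, ∀ a ∈ e6cb_all, ∀ d ∈ e6cb_all, d ≠ x →
    ∀ q ∈ e6cb_linList x a, ∀ q' ∈ e6cb_linList d a, q'.1 ≠ q.1 := by
  decide +kernel

/-- `κ x_a x_b x_x` is a monomial (seen from `x`). -/
def e6cb_hypOK (a b x : I27) (κ : ℤ) : Bool :=
  a != b && e6cb_pm κ && e6cb_linList x a == [(b, κ)]

theorem e6cb_hyp_c1 {a b x : I27} {κ : ℤ} (h : e6cb_hypOK a b x κ = true) (α β : F) (z : I27 → F) :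
    e6cb_c1 (α • (Pi.single a 1 : I27 → F) + β • Pi.single b 1) z = α * β * κ * z x := by
  unfold e6cb_hypOK at h
  simp only [Bool.and_eq_true, bne_iff_ne, ne_eq, beq_iff_eq] at h
  obtain ⟨⟨hab, hκ⟩, hl⟩ := h
  rw [e6cb_c1_eq_sum]
  have hder : ∀ d, e6cb_der d (α • (Pi.single a 1 : I27 → F) + β • Pi.single b 1) =
      if d = x then α * β * κ else 0 := by
    intro d
    rw [e6cb_der_smul_single_add, e6cb_der_smul, e6cb_der_single, mul_zero, zero_add]
    by_cases hd : d = x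
    · subst hd
      rw [hl]
      simp [Pi.single_apply]
      ring
    · rw [if_neg hd]
      have h0 : ((e6cb_linList d a).map fun q => (q.2 : F) * (β • (Pi.single b 1 : I27 → F)) q.1).sum = 0 := by
        apply List.sum_eq_zero
        intro y hy
        rw [List.mem_map] at hy
        obtain ⟨q, hq, rfl⟩ := hy
        have hu := e6cb_linList_unique x (e6cb_mem_all x) a (e6cb_mem_all a) d (e6cb_mem_all d) hd (b, κ)
          (by rw [hl]; exact List.mem_singleton.mpr rfl) q hq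
        simp only at hu
        simp [Pi.single_apply, hu]
      rw [h0, mul_zero]
  simp only [hder]
  rw [Finset.sum_eq_single x]
  · simp
  · intro d _ hd
    simp [hd]
  · intro hx
    exact absurd (Finset.mem_univ x) hx

/-- **Hyperplane rule.** -/
theorem e6cb_hyp_rule (hF : 3 ≤ Fintype.card F) {g : GL I27 F} (hg : g ∈ E6univ F) {K : List I27}
    (hK : e6cb_colsOK g K) {a b x : I27} {κ : ℤ} (ha : a ∈ K) (hb : b ∈ K)
    (h : e6cb_hypOK a b x κ = true) (y : I27 → F) :
    (g : Matrix I27 I27 F) a a * (g : Matrix I27 I27 F) b b * ((g : Matrix I27 I27 F) *ᵥ y) x = y x := by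
  have hκ : e6cb_pm κ = true := by
    unfold e6cb_hypOK at h
    simp only [Bool.and_eq_true] at h
    exact h.1.2
  have h1 := e6cb_c1_inv hF g hg ((1 : F) • (Pi.single a 1 : I27 → F) + (1 : F) • Pi.single b 1) y
  rw [Matrix.mulVec_add, Matrix.mulVec_smul, Matrix.mulVec_smul, ← e6cb_col_eq, ← e6cb_col_eq,
    e6cb_col_of_ok hK ha, e6cb_col_of_ok hK hb, smul_smul, smul_smul, e6cb_hyp_c1 h, e6cb_hyp_c1 h] at h1
  have hκ0 : (κ : F) ≠ 0 := e6cb_pm_ne_zero hκ
  have h2 : (κ : F) * ((g : Matrix I27 I27 F) a a * (g : Matrix I27 I27 F) b b *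
      ((g : Matrix I27 I27 F) *ᵥ y) x - y x) = 0 := by linear_combination h1
  rcases mul_eq_zero.mp h2 with h3 | h3
  · exact absurd h3 hκ0
  · exact sub_eq_zero.mp h3

theorem e6cb_mulVec_single_apply (g : GL I27 F) (c x : I27) :
    ((g : Matrix I27 I27 F) *ᵥ (Pi.single c 1 : I27 → F)) x = (g : Matrix I27 I27 F) x c := by
  rw [← e6cb_col_eq]
  rfl

theorem e6cb_hyp_zero (hF : 3 ≤ Fintype.card F) {g : GL I27 F} (hg : g ∈ E6univ F) {K : List I27}
    (hK : e6cb_colsOK g K) {a b x c : I27} {κ : ℤ} (ha : a ∈ K) (hb : b ∈ K)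
    (h : e6cb_hypOK a b x κ = true) (hxc : x ≠ c) : (g : Matrix I27 I27 F) x c = 0 := by
  have h1 := e6cb_hyp_rule hF hg hK ha hb h (Pi.single c 1)
  rw [e6cb_mulVec_single_apply, Pi.single_apply, if_neg hxc] at h1
  have hna : (g : Matrix I27 I27 F) a a ≠ 0 := e6cb_diag_ne_zero (hK a ha)
  have hnb : (g : Matrix I27 I27 F) b b ≠ 0 := e6cb_diag_ne_zero (hK b hb)
  rcases mul_eq_zero.mp h1 with h2 | h2
  · exact absurd h2 (mul_ne_zero hna hnb)
  · exact h2

theorem e6cb_hyp_pivot (hF : 3 ≤ Fintype.card F) {g : GL I27 F} (hg : g ∈ E6univ F) {K : List I27}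
    (hK : e6cb_colsOK g K) {a b c : I27} {κ : ℤ} (ha : a ∈ K) (hb : b ∈ K)
    (h : e6cb_hypOK a b c κ = true) : (g : Matrix I27 I27 F) c c ≠ 0 := by
  have h1 := e6cb_hyp_rule hF hg hK ha hb h (Pi.single c 1)
  rw [e6cb_mulVec_single_apply, Pi.single_apply, if_pos rfl] at h1
  intro h0
  rw [h0, mul_zero] at h1
  exact zero_ne_one h1

end

end Cfsg.Agent.E6C
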