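import Mathlib
import Cfsg.Prelude.Def_E6
import Cfsg.Agent.E6C.BRules

/-!
# S1084, package B1d: pivots (incident, free, reach certificates) and clearing programs
-/

set_option autoImplicit false

namespace Cfsg.Agent.E6C

open Cfsg.Lie
open scoped Matrix

variable {F : Type*} [Field F]

/-- `p` lies in a common monomial with `k`. -/
def e6cb_inc (k p : I27) : Bool :=
  e6cb_all.any fun d => (e6cb_linList d k).any fun q => q.1 == p

theorem e6cb_col_ne_zero (g : GL I27 F) (c : I27) : ∃ p, (g : Matrix I27 I27 F) p c ≠ 0 := by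
  by_contra h
  push Not at h
  exact e6cb_diag_ne_zero (g := g) (k := c) (fun i _ => h i) (h c)

/-- **Incident pivot rule.** -/
theorem e6cb_inc_pivot [Fintype F] (hF : 3 ≤ Fintype.card F) {g : GL I27 F} (hg : g ∈ E6univ F)
    {K : List I27} (hK : e6cb_colsOK g K) {k c d0 : I27} {κ : ℤ} (hk : k ∈ K)
    (h : e6cb_hypOK k c d0 κ = true) :
    ∃ p, e6cb_inc k p = true ∧ (g : Matrix I27 I27 F) p c ≠ 0 := by
  by_contra hcon
  push Not at hcon
  have hκ : e6cb_pm κ = true := by
    unfold e6cb_hypOK at h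
    simp only [Bool.and_eq_true] at h
    exact h.1.2
  -- the image of `e_k + e_c` is singular
  have hs : e6cb_sing ((g : Matrix I27 I27 F) *ᵥ ((1 : F) • (Pi.single k 1 : I27 → F) + Pi.single c 1)) := by
    rw [e6cb_mulVec_pair hK hk]
    intro d
    rw [e6cb_der_smul_single_add, e6cb_sing_col hF hg c d, zero_add]
    have h0 : ((e6cb_linList d k).map fun q => (q.2 : F) * e6cb_col g c q.1).sum = 0 := by
      apply List.sum_eq_zero
      intro y hy
      rw [List.mem_map] at hy
      obtain ⟨q, hq, rfl⟩ := hy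
      have hinc : e6cb_inc k q.1 = true := by
        unfold e6cb_inc
        rw [List.any_eq_true]
        refine ⟨d, e6cb_mem_all d, ?_⟩
        rw [List.any_eq_true]
        exact ⟨q, hq, by simp⟩
      have := hcon q.1 hinc
      simp only [e6cb_col]
      rw [this, mul_zero]
    rw [h0, mul_zero]
  rw [e6cb_sing_iff] at hs
  have h1 := e6cb_c1_inv hF g hg ((1 : F) • (Pi.single k 1 : I27 → F) + Pi.single c 1) (Pi.single d0 1)
  rw [hs] at h1
  have h2 : ((1 : F) • (Pi.single k 1 : I27 → F) + Pi.single c 1) =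
      (1 : F) • (Pi.single k 1 : I27 → F) + (1 : F) • Pi.single c 1 := by rw [one_smul, one_smul]
  rw [h2, e6cb_hyp_c1 h] at h1
  simp only [one_mul, Pi.single_eq_same, mul_one] at h1
  exact e6cb_pm_ne_zero hκ h1.symm

/-- A reach certificate: `(p, r, t)` says the allowed root `r` has the entry `t ← p` and `t` is already reached. -/
def e6cb_reachOK (K : List I27) : List I27 → List (I27 × ℕ × I27) → Bool
  | _, [] => true
  | S, (p, r, t) :: l =>
    decide (r < 72) && e6cb_allowed K r && S.contains t &&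
      (e6cb_hit (e6cb_ent r) t == some (p, 1) || e6cb_hit (e6cb_ent r) t == some (p, -1)) &&
      e6cb_reachOK K (p :: S) l

/-- The indices reached by a certificate. -/
def e6cb_reachSet : List I27 → List (I27 × ℕ × I27) → List I27
  | S, [] => S
  | S, (p, _, _) :: l => e6cb_reachSet (p :: S) l

/-- A nonzero coordinate in `S` can be moved to the coordinate `c` by allowed root elements. -/
def e6cb_PivGoal (R : e6cb_Roots F) (K : List I27) (c : I27) (S : List I27) : Prop :=
  ∀ g : GL I27 F, g ∈ E6univ F → e6cb_colsOK g K → (∃ p ∈ S, (g : Matrix I27 I27 F) p c ≠ 0) →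
    ∃ n ∈ R.N, e6cb_colsOK (n * g) K ∧ ((n * g : GL I27 F) : Matrix I27 I27 F) c c ≠ 0

theorem e6cb_pivGoal_base (R : e6cb_Roots F) (K : List I27) (c : I27) : e6cb_PivGoal R K c [c] := by
  intro g _ hK ⟨p, hp, hne⟩
  rw [List.mem_singleton] at hp
  subst hp
  exact ⟨1, one_mem _, by rwa [one_mul], by rwa [one_mul]⟩

theorem e6cb_delta_of_hit {ent : List (I27 × I27 × ℤ)} {t s : I27} {ε : ℤ}
    (h : e6cb_hit ent t = some (s, ε)) (w : I27 → F) : e6cb_delta ent w t = (ε : F) * w s := by
  simp [e6cb_delta, h]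

theorem e6cb_delta_of_hit_none {ent : List (I27 × I27 × ℤ)} {t : I27}
    (h : e6cb_hit ent t = none) (w : I27 → F) : e6cb_delta ent w t = 0 := by
  simp [e6cb_delta, h]

theorem e6cb_pivGoal_step (R : e6cb_Roots F) {K : List I27} {c : I27} {S : List I27}
    (ih : e6cb_PivGoal R K c S) {p t : I27} {r : ℕ} {κ : ℤ} (hr : r < 72) (hal : e6cb_allowed K r = true)
    (ht : t ∈ S) (hhit : e6cb_hit (e6cb_ent r) t = some (p, κ)) (hκ : e6cb_pm κ = true) :
    e6cb_PivGoal R K c (p :: S) := by
  intro g hg hK ⟨p', hp', hne⟩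
  rw [List.mem_cons] at hp'
  rcases hp' with rfl | hp'
  · by_cases htz : (g : Matrix I27 I27 F) t c = 0
    · have hg' : R.X r 1 * g ∈ E6univ F := mul_mem (R.mem r 1 hr) hg
      have hK' := e6cb_colsOK_X_mul R hr hal 1 hK
      have hne' : ((R.X r 1 * g : GL I27 F) : Matrix I27 I27 F) t c ≠ 0 := by
        rw [e6cb_X_mul_apply R hr, htz, zero_add, one_mul, e6cb_delta_of_hit hhit]
        exact mul_ne_zero (e6cb_pm_ne_zero hκ) hne
      obtain ⟨n, hn, h1, h2⟩ := ih (R.X r 1 * g) hg' hK' ⟨t, ht, hne'⟩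
      refine ⟨n * R.X r 1, mul_mem hn (R.X_mem_N hr 1), ?_, ?_⟩
      · rwa [mul_assoc]
      · rwa [mul_assoc]
    · exact ih g hg hK ⟨t, ht, htz⟩
  · exact ih g hg hK ⟨p', hp', hne⟩

theorem e6cb_pivGoal_reach (R : e6cb_Roots F) (K : List I27) (c : I27) :
    ∀ (l : List (I27 × ℕ × I27)) (S : List I27), e6cb_PivGoal R K c S → e6cb_reachOK K S l = true →
      e6cb_PivGoal R K c (e6cb_reachSet S l) := by
  intro l
  induction l with
  | nil => intro S h _; exact h
  | cons e l ih =>
    intro S h hok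
    obtain ⟨p, r, t⟩ := e
    simp only [e6cb_reachOK, Bool.and_eq_true, decide_eq_true_eq, List.contains_eq_mem, Bool.or_eq_true,
      beq_iff_eq] at hok
    obtain ⟨⟨⟨⟨hr, hal⟩, ht⟩, hhit⟩, hrest⟩ := hok
    simp only [e6cb_reachSet]
    apply ih (p :: S) _ hrest
    rcases hhit with hh | hh
    · exact e6cb_pivGoal_step R h hr hal ht hh (by decide)
    · exact e6cb_pivGoal_step R h hr hal ht hh (by decide)

end Cfsg.Agent.E6C
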