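import Mathlib
import Cfsg.Prelude.Def_E6
import Cfsg.Agent.E6C.BProg

/-!
# S1084, package B1e: clearing programs and the step theorem
-/

set_option autoImplicit false

namespace Cfsg.Agent.E6C

open Cfsg.Lie
open scoped Matrix

/-- Instructions: clear coordinate `t` with the root `r`; kill coordinate `x` by the quadric `∂_d`. -/
inductive e6cb_Ins where
  | el (r : ℕ) (t : I27)
  | kl (x d : I27)

/-- The pairs of `e6cb_at d` with both indices outside `Z`. -/
def e6cb_live (Z : List I27) (d : I27) : List (I27 × I27 × ℤ) :=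
  (e6cb_at d).filter fun p => !(Z.contains p.1) && !(Z.contains p.2.1)

/-- Side conditions of an instruction, for the pivot `c`, the fixed columns `K` and the zero set `Z`. -/
def e6cb_insOK (K : List I27) (c : I27) (Z : List I27) : e6cb_Ins → Bool
  | .el r t =>
    decide (r < 72) && e6cb_allowed K r && t != c &&
      (e6cb_hit (e6cb_ent r) t == some (c, 1) || e6cb_hit (e6cb_ent r) t == some (c, -1)) &&
      (c :: Z).all fun j => j == t ||
        match e6cb_hit (e6cb_ent r) j with
        | none => true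
        | some (s, _) => Z.contains s
  | .kl x d =>
    e6cb_live Z d == [(c, x, 1)] || e6cb_live Z d == [(c, x, -1)] ||
      e6cb_live Z d == [(x, c, 1)] || e6cb_live Z d == [(x, c, -1)]

/-- The coordinate that becomes zero. -/
def e6cb_insZ : e6cb_Ins → I27
  | .el _ t => t
  | .kl x _ => x

/-- A program is correct if every instruction is, and at the end every coordinate but `c` is in `Z`. -/
def e6cb_progOK (K : List I27) (c : I27) : List I27 → List e6cb_Ins → Bool
  | Z, [] => e6cb_all.all fun x => x == c || Z.contains x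
  | Z, i :: l => e6cb_insOK K c Z i && e6cb_progOK K c (e6cb_insZ i :: Z) l

variable {F : Type*} [Field F]

theorem e6cb_sum_filter {α : Type*} (L : List α) (keep : α → Bool) (f : α → F)
    (h : ∀ p ∈ L, keep p = false → f p = 0) : (L.map f).sum = ((L.filter keep).map f).sum := by
  induction L with
  | nil => simp
  | cons p L ih =>
    have ih' := ih (fun q hq => h q (List.mem_cons_of_mem _ hq))
    rw [List.map_cons, List.sum_cons, ih', List.filter_cons]
    by_cases hk : keep p = true
    · simp [hk]
    · have hk' : keep p = false := by simpa using hk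
      rw [h p List.mem_cons_self hk']
      simp [hk']

/-- The derivative only sees the live pairs. -/
theorem e6cb_der_live (Z : List I27) (d : I27) (w : I27 → F) (hZ : ∀ z ∈ Z, w z = 0) :
    e6cb_der d w = ((e6cb_live Z d).map fun p => (p.2.2 : F) * w p.1 * w p.2.1).sum := by
  unfold e6cb_der e6cb_live
  apply e6cb_sum_filter
  intro p _ hp
  simp only [Bool.and_eq_false_iff, Bool.not_eq_false', List.contains_eq_mem, decide_eq_true_eq] at hp
  rcases hp with hp | hp
  · rw [hZ _ hp]; ring
  · rw [hZ _ hp]; ring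

variable [Fintype F]

/-- **Kill rule.** -/
theorem e6cb_kill_rule (hF : 3 ≤ Fintype.card F) {g : GL I27 F} (hg : g ∈ E6univ F) {K : List I27} {c x d : I27}
    {Z : List I27} (hZ : ∀ z ∈ Z, (g : Matrix I27 I27 F) z c = 0) (hc : (g : Matrix I27 I27 F) c c ≠ 0)
    (h : e6cb_insOK K c Z (.kl x d) = true) : (g : Matrix I27 I27 F) x c = 0 := by
  have h' : e6cb_live Z d = [(c, x, 1)] ∨ e6cb_live Z d = [(c, x, -1)] ∨
      e6cb_live Z d = [(x, c, 1)] ∨ e6cb_live Z d = [(x, c, -1)] := by
    simp only [e6cb_insOK, Bool.or_eq_true, beq_iff_eq] at h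
    tauto
  have hs := e6cb_sing_col hF hg c d
  rw [e6cb_der_live Z d (e6cb_col g c) hZ] at hs
  have hx : (g : Matrix I27 I27 F) c c * (g : Matrix I27 I27 F) x c = 0 := by
    rcases h' with h1 | h1 | h1 | h1 <;> rw [h1] at hs <;>
      simp only [List.map_cons, List.map_nil, List.sum_cons, List.sum_nil, add_zero, e6cb_col] at hs <;>
      push_cast at hs <;> first | linear_combination hs | linear_combination (-1 : F) * hs
  rcases mul_eq_zero.mp hx with h2 | h2
  · exact absurd h2 hc
  · exact h2

/-- The invariant of a clearing program. -/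
structure e6cb_Inv (g : GL I27 F) (K : List I27) (c : I27) (Z : List I27) : Prop where
  mem : g ∈ E6univ F
  cols : e6cb_colsOK g K
  zero : ∀ z ∈ Z, (g : Matrix I27 I27 F) z c = 0
  piv : (g : Matrix I27 I27 F) c c ≠ 0

omit [Fintype F] in
/-- **Clearing rule.** -/
theorem e6cb_el_rule (R : e6cb_Roots F) {K : List I27} {c : I27} {Z : List I27} {r : ℕ} {t : I27}
    (h : e6cb_insOK K c Z (.el r t) = true) {g : GL I27 F} (hI : e6cb_Inv g K c Z) :
    ∃ n ∈ R.N, e6cb_Inv (n * g) K c (t :: Z) := by
  simp only [e6cb_insOK, Bool.and_eq_true, decide_eq_true_eq, bne_iff_ne, ne_eq, Bool.or_eq_true,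
    beq_iff_eq, List.all_eq_true] at h
  obtain ⟨⟨⟨⟨hr, hal⟩, htc⟩, hhit⟩, htri⟩ := h
  obtain ⟨κ, hκ, hhit'⟩ : ∃ κ : ℤ, e6cb_pm κ = true ∧ e6cb_hit (e6cb_ent r) t = some (c, κ) := by
    rcases hhit with hh | hh
    · exact ⟨1, by decide, hh⟩
    · exact ⟨-1, by decide, hh⟩
  have hstay : ∀ j ∈ c :: Z, j ≠ t → ∀ s : F,
      ((R.X r s * g : GL I27 F) : Matrix I27 I27 F) j c = (g : Matrix I27 I27 F) j c := by
    intro j hj hjt s
    rw [e6cb_X_mul_apply R hr]
    have h1 := htri j hj
    rcases h1 with h1 | h1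
    · exact absurd h1 hjt
    · rcases hh : e6cb_hit (e6cb_ent r) j with _ | ⟨s', ε⟩
      · rw [e6cb_delta_of_hit_none hh, mul_zero, add_zero]
      · rw [hh] at h1
        simp only [List.contains_eq_mem, decide_eq_true_eq] at h1
        rw [e6cb_delta_of_hit hh]
        simp only [e6cb_col]
        rw [hI.zero s' h1, mul_zero, mul_zero, add_zero]
  refine ⟨R.X r (-(κ : F) * (g : Matrix I27 I27 F) t c / (g : Matrix I27 I27 F) c c), R.X_mem_N hr _, ?_⟩
  have ht0 : ((R.X r (-(κ : F) * (g : Matrix I27 I27 F) t c / (g : Matrix I27 I27 F) c c) * g : GL I27 F) :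
      Matrix I27 I27 F) t c = 0 := by
    rw [e6cb_X_mul_apply R hr, e6cb_delta_of_hit hhit']
    simp only [e6cb_col]
    have hc := hI.piv
    have hsq := e6cb_pm_sq (F := F) hκ
    field_simp
    linear_combination (-(g : Matrix I27 I27 F) t c) * hsq
  refine ⟨mul_mem (R.mem r _ hr) hI.mem, e6cb_colsOK_X_mul R hr hal _ hI.cols, ?_, ?_⟩
  · intro z hz
    by_cases hzt : z = t
    · rw [hzt]; exact ht0
    · rw [List.mem_cons] at hz
      rcases hz with hz | hz
      · exact absurd hz hzt
      · rw [hstay z (List.mem_cons_of_mem _ hz) hzt]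
        exact hI.zero z hz
  · rw [hstay c List.mem_cons_self (fun e => htc e.symm)]
    exact hI.piv

/-- **Soundness of clearing programs.** -/
theorem e6cb_prog_sound (hF : 3 ≤ Fintype.card F) (R : e6cb_Roots F) (K : List I27) (c : I27) :
    ∀ (l : List e6cb_Ins) (Z : List I27) (g : GL I27 F), e6cb_progOK K c Z l = true → e6cb_Inv g K c Z →
      ∃ n ∈ R.N, e6cb_colsOK (n * g) (c :: K) := by
  intro l
  induction l with
  | nil =>
    intro Z g h hI
    refine ⟨1, one_mem _, ?_⟩
    rw [one_mul]
    simp only [e6cb_progOK, List.all_eq_true, Bool.or_eq_true, beq_iff_eq, List.contains_eq_mem,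
      decide_eq_true_eq] at h
    intro k hk i hi
    rw [List.mem_cons] at hk
    rcases hk with rfl | hk
    · rcases h i (e6cb_mem_all i) with h1 | h1
      · exact absurd h1 hi
      · exact hI.zero i h1
    · exact hI.cols k hk i hi
  | cons ins l ih =>
    intro Z g h hI
    simp only [e6cb_progOK, Bool.and_eq_true] at h
    obtain ⟨h1, h2⟩ := h
    cases ins with
    | el r t =>
      obtain ⟨n1, hn1, hI1⟩ := e6cb_el_rule R h1 hI
      obtain ⟨n2, hn2, hfin⟩ := ih (t :: Z) (n1 * g) h2 hI1
      exact ⟨n2 * n1, mul_mem hn2 hn1, by rwa [mul_assoc]⟩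
    | kl x d =>
      have hx := e6cb_kill_rule hF hI.mem hI.zero hI.piv h1
      have hI1 : e6cb_Inv g K c (x :: Z) := by
        refine ⟨hI.mem, hI.cols, ?_, hI.piv⟩
        intro z hz
        rw [List.mem_cons] at hz
        rcases hz with rfl | hz
        · exact hx
        · exact hI.zero z hz
      exact ih (x :: Z) g h2 hI1

end Cfsg.Agent.E6C
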