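import Mathlib
import Cfsg.Prelude.Def_E6
import Cfsg.Agent.E6C.BStep

/-!
# S1084, package B1f: certificates for one column and for the whole elimination; soundness
-/

set_option autoImplicit false

namespace Cfsg.Agent.E6C

open Cfsg.Lie
open scoped Matrix

/-- Justification of a zero coordinate of `g e_c`. -/
inductive e6cb_Just where
  | sk (k d : I27) (κ : ℤ)
  | hy (a b : I27) (κ : ℤ)

/-- Pivot certificates. -/
inductive e6cb_Piv where
  | hyper (a b : I27) (κ : ℤ)
  | free (reach : List (I27 × ℕ × I27))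
  | inc (k d0 : I27) (κ : ℤ) (reach : List (I27 × ℕ × I27))

/-- The certificate of one column. -/
structure e6cb_Cert where
  c : I27
  z0 : List (I27 × e6cb_Just)
  piv : e6cb_Piv
  prog : List e6cb_Ins

def e6cb_justOK (K : List I27) (c x : I27) : e6cb_Just → Bool
  | .sk k d κ => K.contains k && e6cb_skew k c && e6cb_pm κ && e6cb_linList d k == [(x, κ)]
  | .hy a b κ => x != c && K.contains a && K.contains b && e6cb_hypOK a b x κ

def e6cb_pivOK (K : List I27) (c : I27) (Z0 : List I27) : e6cb_Piv → Bool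
  | .hyper a b κ => K.contains a && K.contains b && e6cb_hypOK a b c κ
  | .free reach =>
    e6cb_reachOK K [c] reach &&
      e6cb_all.all fun p => Z0.contains p || (e6cb_reachSet [c] reach).contains p
  | .inc k d0 κ reach =>
    K.contains k && e6cb_hypOK k c d0 κ && e6cb_reachOK K [c] reach &&
      e6cb_all.all fun p => !(e6cb_inc k p) || Z0.contains p || (e6cb_reachSet [c] reach).contains p

def e6cb_certOK (K : List I27) (C : e6cb_Cert) : Bool :=
  (C.z0.all fun e => e6cb_justOK K C.c e.1 e.2) && e6cb_pivOK K C.c (C.z0.map Prod.fst) C.piv &&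
    e6cb_progOK K C.c (C.z0.map Prod.fst) C.prog

/-- The whole elimination: the columns are processed in the order of the list. -/
def e6cb_runOK : List I27 → List e6cb_Cert → Bool
  | K, [] => e6cb_all.all fun x => K.contains x
  | K, C :: l => e6cb_certOK K C && e6cb_runOK (C.c :: K) l

variable {F : Type*} [Field F] [Fintype F]

theorem e6cb_z0_sound (hF : 3 ≤ Fintype.card F) {K : List I27} {c : I27} {zl : List (I27 × e6cb_Just)}
    (h : (zl.all fun e => e6cb_justOK K c e.1 e.2) = true) {g : GL I27 F} (hg : g ∈ E6univ F)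
    (hK : e6cb_colsOK g K) : ∀ z ∈ zl.map Prod.fst, (g : Matrix I27 I27 F) z c = 0 := by
  intro z hz
  rw [List.mem_map] at hz
  obtain ⟨⟨x, j⟩, he, rfl⟩ := hz
  rw [List.all_eq_true] at h
  have h1 := h _ he
  cases j with
  | sk k d κ =>
    simp only [e6cb_justOK, Bool.and_eq_true, List.contains_eq_mem, decide_eq_true_eq, beq_iff_eq] at h1
    obtain ⟨⟨⟨hk, hsk⟩, hκ⟩, hl⟩ := h1
    exact e6cb_skew_rule hF hg hK hk hsk hκ hl
  | hy a b κ =>
    simp only [e6cb_justOK, Bool.and_eq_true, List.contains_eq_mem, decide_eq_true_eq, bne_iff_ne,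
      ne_eq] at h1
    obtain ⟨⟨⟨hxc, ha⟩, hb⟩, hh⟩ := h1
    exact e6cb_hyp_zero hF hg hK ha hb hh hxc

theorem e6cb_piv_sound (hF : 3 ≤ Fintype.card F) (R : e6cb_Roots F) {K : List I27} {c : I27} {Z0 : List I27}
    {pv : e6cb_Piv} (h : e6cb_pivOK K c Z0 pv = true) {g : GL I27 F} (hg : g ∈ E6univ F)
    (hK : e6cb_colsOK g K) (hZ : ∀ z ∈ Z0, (g : Matrix I27 I27 F) z c = 0) :
    ∃ n ∈ R.N, e6cb_colsOK (n * g) K ∧ ((n * g : GL I27 F) : Matrix I27 I27 F) c c ≠ 0 := by
  cases pv with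
  | hyper a b κ =>
    simp only [e6cb_pivOK, Bool.and_eq_true, List.contains_eq_mem, decide_eq_true_eq] at h
    obtain ⟨⟨ha, hb⟩, hh⟩ := h
    exact ⟨1, one_mem _, by rwa [one_mul], by rw [one_mul]; exact e6cb_hyp_pivot hF hg hK ha hb hh⟩
  | free reach =>
    simp only [e6cb_pivOK, Bool.and_eq_true, List.all_eq_true, Bool.or_eq_true, List.contains_eq_mem,
      decide_eq_true_eq] at h
    obtain ⟨hre, hall⟩ := h
    obtain ⟨p, hp⟩ := e6cb_col_ne_zero g c
    have hgoal := e6cb_pivGoal_reach R K c reach [c] (e6cb_pivGoal_base R K c) hre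
    apply hgoal g hg hK
    refine ⟨p, ?_, hp⟩
    rcases hall p (e6cb_mem_all p) with h1 | h1
    · exact absurd (hZ p h1) hp
    · exact h1
  | inc k d0 κ reach =>
    simp only [e6cb_pivOK, Bool.and_eq_true, List.all_eq_true, Bool.or_eq_true, List.contains_eq_mem,
      decide_eq_true_eq, Bool.not_eq_true'] at h
    obtain ⟨⟨⟨hk, hh⟩, hre⟩, hall⟩ := h
    obtain ⟨p, hinc, hp⟩ := e6cb_inc_pivot hF hg hK hk hh
    have hgoal := e6cb_pivGoal_reach R K c reach [c] (e6cb_pivGoal_base R K c) hre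
    apply hgoal g hg hK
    refine ⟨p, ?_, hp⟩
    rcases hall p (e6cb_mem_all p) with (h1 | h1) | h1
    · rw [hinc] at h1; exact absurd h1 (by decide)
    · exact absurd (hZ p h1) hp
    · exact h1

/-- **Soundness of a column certificate.** -/
theorem e6cb_cert_sound (hF : 3 ≤ Fintype.card F) (R : e6cb_Roots F) {K : List I27} {C : e6cb_Cert}
    (h : e6cb_certOK K C = true) (g : GL I27 F) (hg : g ∈ E6univ F) (hK : e6cb_colsOK g K) :
    ∃ n ∈ R.N, e6cb_colsOK (n * g) (C.c :: K) := by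
  simp only [e6cb_certOK, Bool.and_eq_true] at h
  obtain ⟨⟨hz, hp⟩, hprog⟩ := h
  obtain ⟨n1, hn1, hK1, hpiv⟩ := e6cb_piv_sound hF R hp hg hK (e6cb_z0_sound hF hz hg hK)
  have hg1 : n1 * g ∈ E6univ F := mul_mem (R.N_le hn1) hg
  have hI : e6cb_Inv (n1 * g) K C.c (C.z0.map Prod.fst) :=
    ⟨hg1, hK1, e6cb_z0_sound hF hz hg1 hK1, hpiv⟩
  obtain ⟨n2, hn2, hfin⟩ := e6cb_prog_sound hF R K C.c C.prog _ _ hprog hI
  exact ⟨n2 * n1, mul_mem hn2 hn1, by rwa [mul_assoc]⟩

/-- **Soundness of the whole elimination**: every isometry is a product of root elements times a diagonal matrix. -/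
theorem e6cb_run_sound (hF : 3 ≤ Fintype.card F) (R : e6cb_Roots F) :
    ∀ (l : List e6cb_Cert) (K : List I27), e6cb_runOK K l = true → ∀ g : GL I27 F, g ∈ E6univ F →
      e6cb_colsOK g K → ∃ n ∈ R.N, ∀ i j, i ≠ j → ((n * g : GL I27 F) : Matrix I27 I27 F) i j = 0 := by
  intro l
  induction l with
  | nil =>
    intro K h g _ hK
    refine ⟨1, one_mem _, ?_⟩
    rw [one_mul]
    simp only [e6cb_runOK, List.all_eq_true, List.contains_eq_mem, decide_eq_true_eq] at h
    intro i j hij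
    exact hK j (h j (e6cb_mem_all j)) i hij
  | cons C l ih =>
    intro K h g hg hK
    simp only [e6cb_runOK, Bool.and_eq_true] at h
    obtain ⟨n1, hn1, hK1⟩ := e6cb_cert_sound hF R h.1 g hg hK
    obtain ⟨n2, hn2, hfin⟩ := ih (C.c :: K) h.2 (n1 * g) (mul_mem (R.N_le hn1) hg) hK1
    exact ⟨n2 * n1, mul_mem hn2 hn1, by rwa [mul_assoc]⟩

end Cfsg.Agent.E6C
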