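import Mathlib
import Cfsg.Prelude.Def_E6
import Cfsg.Agent.E6C.BRun

/-!
# S1084, package B2: the 27 column certificates (generated by `notes/S1084_py/gencert.py` from `rep27.json`)
-/

set_option autoImplicit false

namespace Cfsg.Agent.E6C

open Cfsg.Lie

def e6cb_jsk (x k d : ℕ) (κ : ℤ) : I27 × e6cb_Just := (e6cb_ix x, .sk (e6cb_ix k) (e6cb_ix d) κ)
def e6cb_jhy (x a b : ℕ) (κ : ℤ) : I27 × e6cb_Just := (e6cb_ix x, .hy (e6cb_ix a) (e6cb_ix b) κ)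
def e6cb_rch (p r t : ℕ) : I27 × ℕ × I27 := (e6cb_ix p, r, e6cb_ix t)
def e6cb_phy (a b : ℕ) (κ : ℤ) : e6cb_Piv := .hyper (e6cb_ix a) (e6cb_ix b) κ
def e6cb_pinc (k d0 : ℕ) (κ : ℤ) (l : List (I27 × ℕ × I27)) : e6cb_Piv := .inc (e6cb_ix k) (e6cb_ix d0) κ l
def e6cb_iel (r t : ℕ) : e6cb_Ins := .el r (e6cb_ix t)
def e6cb_ikl (x d : ℕ) : e6cb_Ins := .kl (e6cb_ix x) (e6cb_ix d)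

/-- The 27 certificates, in the order of elimination. -/
def e6cb_certs : List e6cb_Cert := [
  ⟨e6cb_ix 0, [],
    e6cb_Piv.free [e6cb_rch 1 56 0, e6cb_rch 2 57 0, e6cb_rch 3 71 0, e6cb_rch 6 70 0, e6cb_rch 12 69 0, e6cb_rch 13 68 0, e6cb_rch 14 67 0, e6cb_rch 15 66 0, e6cb_rch 16 65 0, e6cb_rch 17 64 0, e6cb_rch 18 67 16, e6cb_rch 19 58 0, e6cb_rch 20 61 0, e6cb_rch 21 67 15, e6cb_rch 22 59 0, e6cb_rch 23 62 0, e6cb_rch 24 68 15, e6cb_rch 25 60 0, e6cb_rch 26 63 0, e6cb_rch 4 64 26, e6cb_rch 5 67 26, e6cb_rch 7 64 25, e6cb_rch 8 67 25, e6cb_rch 9 62 25, e6cb_rch 10 61 25, e6cb_rch 11 61 22],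
    [e6cb_iel 0 3, e6cb_iel 1 6, e6cb_iel 2 12, e6cb_iel 3 13, e6cb_iel 4 14, e6cb_iel 5 15, e6cb_iel 6 16, e6cb_iel 7 17, e6cb_iel 8 26, e6cb_iel 9 23, e6cb_iel 10 20, e6cb_iel 11 25, e6cb_iel 12 22, e6cb_iel 13 19, e6cb_iel 14 2, e6cb_iel 15 1, e6cb_ikl 4 8, e6cb_ikl 5 7, e6cb_ikl 7 5, e6cb_ikl 8 4, e6cb_ikl 9 18, e6cb_ikl 10 21, e6cb_ikl 11 24, e6cb_ikl 18 9, e6cb_ikl 21 10, e6cb_ikl 24 11]⟩,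
  ⟨e6cb_ix 4, [],
    e6cb_pinc 0 8 (1) [e6cb_rch 5 42 4, e6cb_rch 7 25 4, e6cb_rch 8 42 7, e6cb_rch 9 24 4, e6cb_rch 10 23 4, e6cb_rch 11 22 4, e6cb_rch 18 43 4, e6cb_rch 21 44 4, e6cb_rch 24 45 4],
    [e6cb_iel 26 24, e6cb_iel 27 21, e6cb_iel 28 18, e6cb_iel 29 5, e6cb_iel 46 7, e6cb_iel 47 9, e6cb_iel 48 10, e6cb_iel 49 11, e6cb_iel 56 3, e6cb_iel 61 15, e6cb_iel 62 16, e6cb_iel 63 17, e6cb_iel 64 26, e6cb_iel 65 23, e6cb_iel 66 20, e6cb_iel 71 1, e6cb_ikl 0 8, e6cb_ikl 2 6, e6cb_ikl 6 2, e6cb_ikl 8 0, e6cb_ikl 12 19, e6cb_ikl 13 22, e6cb_ikl 14 25, e6cb_ikl 19 12, e6cb_ikl 22 13, e6cb_ikl 25 14]⟩,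
  ⟨e6cb_ix 8, [],
    e6cb_phy 0 4 (1),
    [e6cb_iel 22 24, e6cb_iel 23 21, e6cb_iel 24 18, e6cb_iel 25 5, e6cb_iel 42 7, e6cb_iel 43 9, e6cb_iel 44 10, e6cb_iel 45 11, e6cb_iel 57 6, e6cb_iel 58 12, e6cb_iel 59 13, e6cb_iel 60 14, e6cb_iel 67 25, e6cb_iel 68 22, e6cb_iel 69 19, e6cb_iel 70 2, e6cb_ikl 0 4, e6cb_ikl 1 3, e6cb_ikl 3 1, e6cb_ikl 4 0, e6cb_ikl 15 20, e6cb_ikl 16 23, e6cb_ikl 17 26, e6cb_ikl 20 15, e6cb_ikl 23 16, e6cb_ikl 26 17]⟩,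
  ⟨e6cb_ix 1, [e6cb_jhy 0 4 8 (1), e6cb_jsk 2 4 6 (-1), e6cb_jhy 4 0 8 (1), e6cb_jsk 5 0 7 (-1), e6cb_jsk 6 4 2 (-1), e6cb_jsk 7 0 5 (-1), e6cb_jhy 8 0 4 (1), e6cb_jsk 9 0 18 (-1), e6cb_jsk 10 0 21 (-1), e6cb_jsk 11 0 24 (-1), e6cb_jsk 12 4 19 (-1), e6cb_jsk 13 4 22 (-1), e6cb_jsk 14 4 25 (-1), e6cb_jsk 18 0 9 (-1), e6cb_jsk 19 4 12 (-1), e6cb_jsk 21 0 10 (-1), e6cb_jsk 22 4 13 (-1), e6cb_jsk 24 0 11 (-1), e6cb_jsk 25 4 14 (-1)],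
    e6cb_Piv.free [e6cb_rch 15 55 1, e6cb_rch 16 54 1, e6cb_rch 17 53 1, e6cb_rch 20 50 1, e6cb_rch 23 51 1, e6cb_rch 26 52 1, e6cb_rch 3 53 26],
    [e6cb_iel 16 15, e6cb_iel 17 16, e6cb_iel 18 17, e6cb_iel 19 26, e6cb_iel 20 23, e6cb_iel 21 20, e6cb_ikl 3 8]⟩,
  ⟨e6cb_ix 3, [e6cb_jhy 0 4 8 (1), e6cb_jsk 2 4 6 (-1), e6cb_jhy 4 0 8 (1), e6cb_jsk 5 0 7 (-1), e6cb_jsk 6 4 2 (-1), e6cb_jsk 7 0 5 (-1), e6cb_jhy 8 0 4 (1), e6cb_jsk 9 0 18 (-1), e6cb_jsk 10 0 21 (-1), e6cb_jsk 11 0 24 (-1), e6cb_jsk 12 4 19 (-1), e6cb_jsk 13 4 22 (-1), e6cb_jsk 14 4 25 (-1), e6cb_jsk 18 0 9 (-1), e6cb_jsk 19 4 12 (-1), e6cb_jsk 21 0 10 (-1), e6cb_jsk 22 4 13 (-1), e6cb_jsk 24 0 11 (-1), e6cb_jsk 25 4 14 (-1)],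
    e6cb_phy 8 1 (-1),
    [e6cb_iel 50 15, e6cb_iel 51 16, e6cb_iel 52 17, e6cb_iel 53 26, e6cb_iel 54 23, e6cb_iel 55 20, e6cb_ikl 1 8]⟩,
  ⟨e6cb_ix 2, [e6cb_jhy 0 4 8 (1), e6cb_jhy 1 8 3 (-1), e6cb_jhy 3 8 1 (-1), e6cb_jhy 4 0 8 (1), e6cb_jsk 5 0 7 (-1), e6cb_jsk 6 1 5 (1), e6cb_jsk 7 0 5 (-1), e6cb_jhy 8 0 4 (1), e6cb_jsk 9 0 18 (-1), e6cb_jsk 10 0 21 (-1), e6cb_jsk 11 0 24 (-1), e6cb_jsk 12 1 18 (-1), e6cb_jsk 13 1 21 (-1), e6cb_jsk 14 1 24 (-1), e6cb_jsk 15 8 20 (-1), e6cb_jsk 16 8 23 (-1), e6cb_jsk 17 8 26 (-1), e6cb_jsk 18 0 9 (-1), e6cb_jsk 20 8 15 (-1), e6cb_jsk 21 0 10 (-1), e6cb_jsk 23 8 16 (-1), e6cb_jsk 24 0 11 (-1), e6cb_jsk 26 8 17 (-1)],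
    e6cb_Piv.free [e6cb_rch 25 41 2, e6cb_rch 19 39 2, e6cb_rch 22 40 2],
    [e6cb_iel 30 25, e6cb_iel 31 22, e6cb_iel 32 19]⟩,
  ⟨e6cb_ix 6, [e6cb_jhy 0 4 8 (1), e6cb_jhy 1 8 3 (-1), e6cb_jsk 2 3 7 (1), e6cb_jhy 3 8 1 (-1), e6cb_jhy 4 0 8 (1), e6cb_jsk 5 0 7 (-1), e6cb_jhy 7 3 2 (1), e6cb_jhy 8 0 4 (1), e6cb_jsk 9 0 18 (-1), e6cb_jsk 10 0 21 (-1), e6cb_jsk 11 0 24 (-1), e6cb_jsk 15 8 20 (-1), e6cb_jsk 16 8 23 (-1), e6cb_jsk 17 8 26 (-1), e6cb_jsk 18 0 9 (-1), e6cb_jsk 19 3 9 (-1), e6cb_jsk 20 8 15 (-1), e6cb_jsk 21 0 10 (-1), e6cb_jsk 22 3 10 (-1), e6cb_jsk 23 8 16 (-1), e6cb_jsk 24 0 11 (-1), e6cb_jsk 25 3 11 (-1), e6cb_jsk 26 8 17 (-1)],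
    e6cb_phy 4 2 (-1),
    [e6cb_iel 39 12, e6cb_iel 40 13, e6cb_iel 41 14]⟩,
  ⟨e6cb_ix 5, [e6cb_jhy 0 4 8 (1), e6cb_jhy 1 8 3 (-1), e6cb_jhy 2 4 6 (-1), e6cb_jhy 3 8 1 (-1), e6cb_jhy 4 0 8 (1), e6cb_jhy 6 4 2 (-1), e6cb_jhy 7 3 2 (1), e6cb_jhy 8 0 4 (1), e6cb_jsk 9 3 19 (-1), e6cb_jsk 10 3 22 (-1), e6cb_jsk 11 3 25 (-1), e6cb_jsk 12 4 19 (-1), e6cb_jsk 13 4 22 (-1), e6cb_jsk 14 4 25 (-1), e6cb_jsk 15 8 20 (-1), e6cb_jsk 16 8 23 (-1), e6cb_jsk 17 8 26 (-1), e6cb_jsk 18 2 15 (-1), e6cb_jsk 19 4 12 (-1), e6cb_jsk 20 8 15 (-1), e6cb_jsk 21 2 16 (-1), e6cb_jsk 22 4 13 (-1), e6cb_jsk 23 8 16 (-1), e6cb_jsk 24 2 17 (-1), e6cb_jsk 25 4 14 (-1), e6cb_jsk 26 8 17 (-1)],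
    e6cb_phy 1 6 (1),
    []⟩,
  ⟨e6cb_ix 7, [e6cb_jhy 0 4 8 (1), e6cb_jhy 1 8 3 (-1), e6cb_jhy 2 4 6 (-1), e6cb_jhy 3 8 1 (-1), e6cb_jhy 4 0 8 (1), e6cb_jhy 5 1 6 (1), e6cb_jhy 6 4 2 (-1), e6cb_jhy 8 0 4 (1), e6cb_jsk 9 6 20 (-1), e6cb_jsk 10 6 23 (-1), e6cb_jsk 11 6 26 (-1), e6cb_jsk 12 4 19 (-1), e6cb_jsk 13 4 22 (-1), e6cb_jsk 14 4 25 (-1), e6cb_jsk 15 8 20 (-1), e6cb_jsk 16 8 23 (-1), e6cb_jsk 17 8 26 (-1), e6cb_jsk 18 1 12 (-1), e6cb_jsk 19 4 12 (-1), e6cb_jsk 20 8 15 (-1), e6cb_jsk 21 1 13 (-1), e6cb_jsk 22 4 13 (-1), e6cb_jsk 23 8 16 (-1), e6cb_jsk 24 1 14 (-1), e6cb_jsk 25 4 14 (-1), e6cb_jsk 26 8 17 (-1)],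
    e6cb_phy 0 5 (-1),
    []⟩,
  ⟨e6cb_ix 9, [e6cb_jhy 0 4 8 (1), e6cb_jhy 1 8 3 (-1), e6cb_jhy 2 4 6 (-1), e6cb_jhy 3 8 1 (-1), e6cb_jhy 4 0 8 (1), e6cb_jhy 5 0 7 (-1), e6cb_jhy 6 4 2 (-1), e6cb_jhy 7 0 5 (-1), e6cb_jhy 8 0 4 (1), e6cb_jsk 12 4 19 (-1), e6cb_jsk 13 4 22 (-1), e6cb_jsk 14 4 25 (-1), e6cb_jsk 15 8 20 (-1), e6cb_jsk 16 8 23 (-1), e6cb_jsk 17 8 26 (-1), e6cb_jsk 18 1 12 (-1), e6cb_jsk 19 4 12 (-1), e6cb_jsk 20 8 15 (-1), e6cb_jsk 21 1 13 (-1), e6cb_jsk 22 4 13 (-1), e6cb_jsk 23 8 16 (-1), e6cb_jsk 24 1 14 (-1), e6cb_jsk 25 4 14 (-1), e6cb_jsk 26 8 17 (-1)],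
    e6cb_Piv.free [e6cb_rch 10 34 9, e6cb_rch 11 33 9],
    [e6cb_iel 37 10, e6cb_iel 38 11]⟩,
  ⟨e6cb_ix 18, [e6cb_jhy 0 4 8 (1), e6cb_jhy 1 8 3 (-1), e6cb_jhy 2 4 6 (-1), e6cb_jhy 3 8 1 (-1), e6cb_jhy 4 0 8 (1), e6cb_jhy 5 0 7 (-1), e6cb_jhy 6 4 2 (-1), e6cb_jhy 7 0 5 (-1), e6cb_jhy 8 0 4 (1), e6cb_jsk 9 3 19 (-1), e6cb_jsk 10 3 22 (-1), e6cb_jsk 11 3 25 (-1), e6cb_jsk 12 4 19 (-1), e6cb_jsk 13 4 22 (-1), e6cb_jsk 14 4 25 (-1), e6cb_jsk 15 8 20 (-1), e6cb_jsk 16 8 23 (-1), e6cb_jsk 17 8 26 (-1), e6cb_jhy 19 3 9 (-1), e6cb_jhy 20 6 9 (-1), e6cb_jsk 22 4 13 (-1), e6cb_jsk 23 8 16 (-1), e6cb_jsk 25 4 14 (-1), e6cb_jsk 26 8 17 (-1)],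
    e6cb_phy 0 9 (-1),
    [e6cb_iel 33 24, e6cb_iel 34 21]⟩,
  ⟨e6cb_ix 12, [e6cb_jhy 0 4 8 (1), e6cb_jhy 1 8 3 (-1), e6cb_jhy 2 4 6 (-1), e6cb_jhy 3 8 1 (-1), e6cb_jhy 4 0 8 (1), e6cb_jhy 5 0 7 (-1), e6cb_jhy 6 4 2 (-1), e6cb_jhy 7 0 5 (-1), e6cb_jhy 8 0 4 (1), e6cb_jhy 9 0 18 (-1), e6cb_jsk 10 0 21 (-1), e6cb_jsk 11 0 24 (-1), e6cb_jsk 13 9 17 (1), e6cb_jsk 14 9 16 (-1), e6cb_jhy 15 2 18 (-1), e6cb_jsk 16 8 23 (-1), e6cb_jsk 17 8 26 (-1), e6cb_jhy 18 0 9 (-1), e6cb_jhy 19 3 9 (-1), e6cb_jhy 20 6 9 (-1), e6cb_jsk 21 0 10 (-1), e6cb_jsk 22 3 10 (-1), e6cb_jsk 23 8 16 (-1), e6cb_jsk 24 0 11 (-1), e6cb_jsk 25 3 11 (-1), e6cb_jsk 26 8 17 (-1)],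
    e6cb_phy 1 18 (-1),
    []⟩,
  ⟨e6cb_ix 19, [e6cb_jhy 0 4 8 (1), e6cb_jhy 1 8 3 (-1), e6cb_jhy 2 4 6 (-1), e6cb_jhy 3 8 1 (-1), e6cb_jhy 4 0 8 (1), e6cb_jhy 5 0 7 (-1), e6cb_jhy 6 4 2 (-1), e6cb_jhy 7 0 5 (-1), e6cb_jhy 8 0 4 (1), e6cb_jhy 9 0 18 (-1), e6cb_jsk 10 0 21 (-1), e6cb_jsk 11 0 24 (-1), e6cb_jhy 12 1 18 (-1), e6cb_jsk 13 1 21 (-1), e6cb_jsk 14 1 24 (-1), e6cb_jhy 15 2 18 (-1), e6cb_jsk 16 8 23 (-1), e6cb_jsk 17 8 26 (-1), e6cb_jhy 18 0 9 (-1), e6cb_jhy 20 6 9 (-1), e6cb_jsk 21 0 10 (-1), e6cb_jsk 22 18 26 (1), e6cb_jsk 23 8 16 (-1), e6cb_jsk 24 0 11 (-1), e6cb_jsk 25 18 23 (-1), e6cb_jsk 26 8 17 (-1)],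
    e6cb_phy 4 12 (-1),
    []⟩,
  ⟨e6cb_ix 15, [e6cb_jhy 0 4 8 (1), e6cb_jhy 1 8 3 (-1), e6cb_jhy 2 4 6 (-1), e6cb_jhy 3 8 1 (-1), e6cb_jhy 4 0 8 (1), e6cb_jhy 5 0 7 (-1), e6cb_jhy 6 4 2 (-1), e6cb_jhy 7 0 5 (-1), e6cb_jhy 8 0 4 (1), e6cb_jhy 9 0 18 (-1), e6cb_jsk 10 0 21 (-1), e6cb_jsk 11 0 24 (-1), e6cb_jhy 12 4 19 (-1), e6cb_jsk 13 4 22 (-1), e6cb_jsk 14 4 25 (-1), e6cb_jsk 16 9 14 (-1), e6cb_jsk 17 9 13 (1), e6cb_jhy 18 0 9 (-1), e6cb_jhy 19 4 12 (-1), e6cb_jhy 20 6 9 (-1), e6cb_jsk 21 0 10 (-1), e6cb_jsk 22 4 13 (-1), e6cb_jsk 23 6 10 (-1), e6cb_jsk 24 0 11 (-1), e6cb_jsk 25 4 14 (-1), e6cb_jsk 26 6 11 (-1)],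
    e6cb_phy 2 18 (-1),
    []⟩,
  ⟨e6cb_ix 20, [e6cb_jhy 0 4 8 (1), e6cb_jhy 1 8 3 (-1), e6cb_jhy 2 4 6 (-1), e6cb_jhy 3 8 1 (-1), e6cb_jhy 4 0 8 (1), e6cb_jhy 5 0 7 (-1), e6cb_jhy 6 4 2 (-1), e6cb_jhy 7 0 5 (-1), e6cb_jhy 8 0 4 (1), e6cb_jhy 9 0 18 (-1), e6cb_jsk 10 0 21 (-1), e6cb_jsk 11 0 24 (-1), e6cb_jhy 12 4 19 (-1), e6cb_jsk 13 4 22 (-1), e6cb_jsk 14 4 25 (-1), e6cb_jhy 15 2 18 (-1), e6cb_jsk 16 2 21 (-1), e6cb_jsk 17 2 24 (-1), e6cb_jhy 18 0 9 (-1), e6cb_jhy 19 4 12 (-1), e6cb_jsk 21 0 10 (-1), e6cb_jsk 22 4 13 (-1), e6cb_jsk 23 18 25 (-1), e6cb_jsk 24 0 11 (-1), e6cb_jsk 25 4 14 (-1), e6cb_jsk 26 18 22 (1)],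
    e6cb_phy 8 15 (-1),
    []⟩,
  ⟨e6cb_ix 10, [e6cb_jhy 0 4 8 (1), e6cb_jhy 1 8 3 (-1), e6cb_jhy 2 4 6 (-1), e6cb_jhy 3 8 1 (-1), e6cb_jhy 4 0 8 (1), e6cb_jhy 5 0 7 (-1), e6cb_jhy 6 4 2 (-1), e6cb_jhy 7 0 5 (-1), e6cb_jhy 8 0 4 (1), e6cb_jhy 9 0 18 (-1), e6cb_jhy 12 4 19 (-1), e6cb_jsk 13 4 22 (-1), e6cb_jsk 14 4 25 (-1), e6cb_jhy 15 8 20 (-1), e6cb_jsk 16 8 23 (-1), e6cb_jsk 17 8 26 (-1), e6cb_jhy 18 0 9 (-1), e6cb_jhy 19 4 12 (-1), e6cb_jhy 20 8 15 (-1), e6cb_jsk 21 1 13 (-1), e6cb_jsk 22 4 13 (-1), e6cb_jsk 23 8 16 (-1), e6cb_jsk 24 1 14 (-1), e6cb_jsk 25 4 14 (-1), e6cb_jsk 26 8 17 (-1)],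
    e6cb_Piv.free [e6cb_rch 11 35 10],
    [e6cb_iel 36 11]⟩,
  ⟨e6cb_ix 14, [e6cb_jhy 0 4 8 (1), e6cb_jhy 1 8 3 (-1), e6cb_jhy 2 4 6 (-1), e6cb_jhy 3 8 1 (-1), e6cb_jhy 4 0 8 (1), e6cb_jhy 5 0 7 (-1), e6cb_jhy 6 4 2 (-1), e6cb_jhy 7 0 5 (-1), e6cb_jhy 8 0 4 (1), e6cb_jhy 9 0 18 (-1), e6cb_jsk 10 0 21 (-1), e6cb_jsk 11 0 24 (-1), e6cb_jhy 12 4 19 (-1), e6cb_jhy 15 8 20 (-1), e6cb_jsk 16 8 23 (-1), e6cb_jhy 17 12 10 (-1), e6cb_jhy 18 0 9 (-1), e6cb_jhy 19 4 12 (-1), e6cb_jhy 20 8 15 (-1), e6cb_jhy 21 0 10 (-1), e6cb_jhy 22 3 10 (-1), e6cb_jhy 23 6 10 (-1), e6cb_jsk 24 0 11 (-1), e6cb_jsk 25 3 11 (-1), e6cb_jsk 26 8 17 (-1)],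
    e6cb_phy 15 10 (1),
    [e6cb_iel 35 13]⟩,
  ⟨e6cb_ix 16, [e6cb_jhy 0 4 8 (1), e6cb_jhy 1 8 3 (-1), e6cb_jhy 2 4 6 (-1), e6cb_jhy 3 8 1 (-1), e6cb_jhy 4 0 8 (1), e6cb_jhy 5 0 7 (-1), e6cb_jhy 6 4 2 (-1), e6cb_jhy 7 0 5 (-1), e6cb_jhy 8 0 4 (1), e6cb_jhy 9 0 18 (-1), e6cb_jhy 10 15 14 (1), e6cb_jsk 11 0 24 (-1), e6cb_jhy 12 4 19 (-1), e6cb_jsk 13 4 22 (-1), e6cb_jhy 14 15 10 (1), e6cb_jhy 15 8 20 (-1), e6cb_jhy 17 12 10 (-1), e6cb_jhy 18 0 9 (-1), e6cb_jhy 19 4 12 (-1), e6cb_jhy 20 8 15 (-1), e6cb_jhy 21 0 10 (-1), e6cb_jhy 22 3 10 (-1), e6cb_jhy 23 6 10 (-1), e6cb_jhy 24 1 14 (-1), e6cb_jhy 25 4 14 (-1), e6cb_jhy 26 7 14 (-1)],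
    e6cb_phy 9 14 (-1),
    []⟩,
  ⟨e6cb_ix 21, [e6cb_jhy 0 4 8 (1), e6cb_jhy 1 8 3 (-1), e6cb_jhy 2 4 6 (-1), e6cb_jhy 3 8 1 (-1), e6cb_jhy 4 0 8 (1), e6cb_jhy 5 0 7 (-1), e6cb_jhy 6 4 2 (-1), e6cb_jhy 7 0 5 (-1), e6cb_jhy 8 0 4 (1), e6cb_jhy 9 0 18 (-1), e6cb_jhy 10 15 14 (1), e6cb_jhy 11 12 16 (1), e6cb_jhy 12 4 19 (-1), e6cb_jsk 13 4 22 (-1), e6cb_jhy 14 9 16 (-1), e6cb_jhy 15 8 20 (-1), e6cb_jhy 16 9 14 (-1), e6cb_jhy 17 12 10 (-1), e6cb_jhy 18 0 9 (-1), e6cb_jhy 19 4 12 (-1), e6cb_jhy 20 8 15 (-1), e6cb_jhy 22 3 10 (-1), e6cb_jhy 23 8 16 (-1), e6cb_jhy 24 1 14 (-1), e6cb_jhy 25 4 14 (-1), e6cb_jhy 26 7 14 (-1)],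
    e6cb_phy 0 10 (-1),
    []⟩,
  ⟨e6cb_ix 22, [e6cb_jhy 0 4 8 (1), e6cb_jhy 1 8 3 (-1), e6cb_jhy 2 4 6 (-1), e6cb_jhy 3 8 1 (-1), e6cb_jhy 4 0 8 (1), e6cb_jhy 5 0 7 (-1), e6cb_jhy 6 4 2 (-1), e6cb_jhy 7 0 5 (-1), e6cb_jhy 8 0 4 (1), e6cb_jhy 9 0 18 (-1), e6cb_jhy 10 0 21 (-1), e6cb_jhy 11 12 16 (1), e6cb_jhy 12 4 19 (-1), e6cb_jhy 13 1 21 (-1), e6cb_jhy 14 9 16 (-1), e6cb_jhy 15 8 20 (-1), e6cb_jhy 16 2 21 (-1), e6cb_jhy 17 12 10 (-1), e6cb_jhy 18 0 9 (-1), e6cb_jhy 19 4 12 (-1), e6cb_jhy 20 8 15 (-1), e6cb_jhy 21 0 10 (-1), e6cb_jhy 23 8 16 (-1), e6cb_jhy 24 1 14 (-1), e6cb_jhy 25 4 14 (-1), e6cb_jhy 26 7 14 (-1)],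
    e6cb_phy 3 10 (-1),
    []⟩,
  ⟨e6cb_ix 26, [e6cb_jhy 0 4 8 (1), e6cb_jhy 1 8 3 (-1), e6cb_jhy 2 4 6 (-1), e6cb_jhy 3 8 1 (-1), e6cb_jhy 4 0 8 (1), e6cb_jhy 5 0 7 (-1), e6cb_jhy 6 4 2 (-1), e6cb_jhy 7 0 5 (-1), e6cb_jhy 8 0 4 (1), e6cb_jhy 9 0 18 (-1), e6cb_jhy 10 0 21 (-1), e6cb_jhy 11 12 16 (1), e6cb_jhy 12 4 19 (-1), e6cb_jhy 13 4 22 (-1), e6cb_jhy 14 9 16 (-1), e6cb_jhy 15 8 20 (-1), e6cb_jhy 16 2 21 (-1), e6cb_jhy 17 12 10 (-1), e6cb_jhy 18 0 9 (-1), e6cb_jhy 19 4 12 (-1), e6cb_jhy 20 8 15 (-1), e6cb_jhy 21 0 10 (-1), e6cb_jhy 22 3 10 (-1), e6cb_jhy 23 8 16 (-1), e6cb_jhy 24 1 14 (-1), e6cb_jhy 25 4 14 (-1)],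
    e6cb_phy 7 14 (-1),
    []⟩,
  ⟨e6cb_ix 11, [e6cb_jhy 0 4 8 (1), e6cb_jhy 1 8 3 (-1), e6cb_jhy 2 4 6 (-1), e6cb_jhy 3 8 1 (-1), e6cb_jhy 4 0 8 (1), e6cb_jhy 5 0 7 (-1), e6cb_jhy 6 4 2 (-1), e6cb_jhy 7 0 5 (-1), e6cb_jhy 8 0 4 (1), e6cb_jhy 9 0 18 (-1), e6cb_jhy 10 0 21 (-1), e6cb_jhy 12 4 19 (-1), e6cb_jhy 13 4 22 (-1), e6cb_jhy 14 7 26 (-1), e6cb_jhy 15 8 20 (-1), e6cb_jhy 16 2 21 (-1), e6cb_jhy 17 8 26 (-1), e6cb_jhy 18 0 9 (-1), e6cb_jhy 19 4 12 (-1), e6cb_jhy 20 8 15 (-1), e6cb_jhy 21 0 10 (-1), e6cb_jhy 22 3 10 (-1), e6cb_jhy 23 8 16 (-1), e6cb_jhy 24 1 14 (-1), e6cb_jhy 25 4 14 (-1), e6cb_jhy 26 7 14 (-1)],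
    e6cb_phy 6 26 (-1),
    []⟩,
  ⟨e6cb_ix 13, [e6cb_jhy 0 4 8 (1), e6cb_jhy 1 8 3 (-1), e6cb_jhy 2 4 6 (-1), e6cb_jhy 3 8 1 (-1), e6cb_jhy 4 0 8 (1), e6cb_jhy 5 0 7 (-1), e6cb_jhy 6 4 2 (-1), e6cb_jhy 7 0 5 (-1), e6cb_jhy 8 0 4 (1), e6cb_jhy 9 0 18 (-1), e6cb_jhy 10 0 21 (-1), e6cb_jhy 11 6 26 (-1), e6cb_jhy 12 4 19 (-1), e6cb_jhy 14 7 26 (-1), e6cb_jhy 15 8 20 (-1), e6cb_jhy 16 2 21 (-1), e6cb_jhy 17 8 26 (-1), e6cb_jhy 18 0 9 (-1), e6cb_jhy 19 4 12 (-1), e6cb_jhy 20 8 15 (-1), e6cb_jhy 21 0 10 (-1), e6cb_jhy 22 3 10 (-1), e6cb_jhy 23 8 16 (-1), e6cb_jhy 24 0 11 (-1), e6cb_jhy 25 4 14 (-1), e6cb_jhy 26 6 11 (-1)],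
    e6cb_phy 4 22 (-1),
    []⟩,
  ⟨e6cb_ix 17, [e6cb_jhy 0 4 8 (1), e6cb_jhy 1 8 3 (-1), e6cb_jhy 2 4 6 (-1), e6cb_jhy 3 8 1 (-1), e6cb_jhy 4 0 8 (1), e6cb_jhy 5 0 7 (-1), e6cb_jhy 6 4 2 (-1), e6cb_jhy 7 0 5 (-1), e6cb_jhy 8 0 4 (1), e6cb_jhy 9 0 18 (-1), e6cb_jhy 10 0 21 (-1), e6cb_jhy 11 6 26 (-1), e6cb_jhy 12 4 19 (-1), e6cb_jhy 13 4 22 (-1), e6cb_jhy 14 7 26 (-1), e6cb_jhy 15 8 20 (-1), e6cb_jhy 16 2 21 (-1), e6cb_jhy 18 0 9 (-1), e6cb_jhy 19 4 12 (-1), e6cb_jhy 20 8 15 (-1), e6cb_jhy 21 0 10 (-1), e6cb_jhy 22 4 13 (-1), e6cb_jhy 23 8 16 (-1), e6cb_jhy 24 0 11 (-1), e6cb_jhy 25 4 14 (-1), e6cb_jhy 26 6 11 (-1)],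
    e6cb_phy 8 26 (-1),
    []⟩,
  ⟨e6cb_ix 24, [e6cb_jhy 0 4 8 (1), e6cb_jhy 1 8 3 (-1), e6cb_jhy 2 4 6 (-1), e6cb_jhy 3 8 1 (-1), e6cb_jhy 4 0 8 (1), e6cb_jhy 5 0 7 (-1), e6cb_jhy 6 4 2 (-1), e6cb_jhy 7 0 5 (-1), e6cb_jhy 8 0 4 (1), e6cb_jhy 9 0 18 (-1), e6cb_jhy 10 0 21 (-1), e6cb_jhy 11 6 26 (-1), e6cb_jhy 12 4 19 (-1), e6cb_jhy 13 4 22 (-1), e6cb_jhy 14 7 26 (-1), e6cb_jhy 15 8 20 (-1), e6cb_jhy 16 2 21 (-1), e6cb_jhy 17 8 26 (-1), e6cb_jhy 18 0 9 (-1), e6cb_jhy 19 4 12 (-1), e6cb_jhy 20 8 15 (-1), e6cb_jhy 21 0 10 (-1), e6cb_jhy 22 4 13 (-1), e6cb_jhy 23 8 16 (-1), e6cb_jhy 25 4 14 (-1), e6cb_jhy 26 8 17 (-1)],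
    e6cb_phy 0 11 (-1),
    []⟩,
  ⟨e6cb_ix 23, [e6cb_jhy 0 4 8 (1), e6cb_jhy 1 8 3 (-1), e6cb_jhy 2 4 6 (-1), e6cb_jhy 3 8 1 (-1), e6cb_jhy 4 0 8 (1), e6cb_jhy 5 0 7 (-1), e6cb_jhy 6 4 2 (-1), e6cb_jhy 7 0 5 (-1), e6cb_jhy 8 0 4 (1), e6cb_jhy 9 0 18 (-1), e6cb_jhy 10 0 21 (-1), e6cb_jhy 11 0 24 (-1), e6cb_jhy 12 4 19 (-1), e6cb_jhy 13 4 22 (-1), e6cb_jhy 14 1 24 (-1), e6cb_jhy 15 8 20 (-1), e6cb_jhy 16 2 21 (-1), e6cb_jhy 17 8 26 (-1), e6cb_jhy 18 0 9 (-1), e6cb_jhy 19 4 12 (-1), e6cb_jhy 20 8 15 (-1), e6cb_jhy 21 0 10 (-1), e6cb_jhy 22 4 13 (-1), e6cb_jhy 24 0 11 (-1), e6cb_jhy 25 4 14 (-1), e6cb_jhy 26 8 17 (-1)],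
    e6cb_phy 8 16 (-1),
    []⟩,
  ⟨e6cb_ix 25, [e6cb_jhy 0 4 8 (1), e6cb_jhy 1 8 3 (-1), e6cb_jhy 2 4 6 (-1), e6cb_jhy 3 8 1 (-1), e6cb_jhy 4 0 8 (1), e6cb_jhy 5 0 7 (-1), e6cb_jhy 6 4 2 (-1), e6cb_jhy 7 0 5 (-1), e6cb_jhy 8 0 4 (1), e6cb_jhy 9 0 18 (-1), e6cb_jhy 10 0 21 (-1), e6cb_jhy 11 0 24 (-1), e6cb_jhy 12 4 19 (-1), e6cb_jhy 13 4 22 (-1), e6cb_jhy 14 1 24 (-1), e6cb_jhy 15 8 20 (-1), e6cb_jhy 16 8 23 (-1), e6cb_jhy 17 8 26 (-1), e6cb_jhy 18 0 9 (-1), e6cb_jhy 19 4 12 (-1), e6cb_jhy 20 8 15 (-1), e6cb_jhy 21 0 10 (-1), e6cb_jhy 22 4 13 (-1), e6cb_jhy 23 8 16 (-1), e6cb_jhy 24 0 11 (-1), e6cb_jhy 26 8 17 (-1)],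
    e6cb_phy 4 14 (-1),
    []⟩]

set_option maxRecDepth 100000 in
theorem e6cb_certs_ok : e6cb_runOK [] e6cb_certs = true := by decide +kernel

open scoped Matrix

variable {F : Type*} [Field F] [Fintype F]

/-- Every isometry of `cubicT` is a product of root elements times a diagonal matrix. -/
theorem e6cb_exists_diag (hF : 3 ≤ Fintype.card F) (R : e6cb_Roots F) (g : GL I27 F) (hg : g ∈ E6univ F) :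
    ∃ n ∈ R.N, ∀ i j, i ≠ j → ((n * g : GL I27 F) : Matrix I27 I27 F) i j = 0 :=
  e6cb_run_sound hF R e6cb_certs [] e6cb_certs_ok g hg (fun k hk => absurd hk List.not_mem_nil)

/-- **Part B**: if moreover the diagonal isometries are products of root elements, then so is every isometry. -/
theorem e6cb_partB (hF : 3 ≤ Fintype.card F) (R : e6cb_Roots F)
    (hdiag : ∀ g : GL I27 F, g ∈ E6univ F → (∀ i j, i ≠ j → (g : Matrix I27 I27 F) i j = 0) → g ∈ R.N) :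
    E6univ F ≤ R.N := by
  intro g hg
  obtain ⟨n, hn, hd⟩ := e6cb_exists_diag hF R g hg
  have h1 : n * g ∈ R.N := hdiag (n * g) (mul_mem (R.N_le hn) hg) hd
  have h2 : g = n⁻¹ * (n * g) := by group
  rw [h2]
  exact mul_mem (inv_mem hn) h1

end Cfsg.Agent.E6C
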