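import Mathlib

/-!
# S1084, part C (abstract): quotients by the centre of two images of one group

`e6cb_nonempty_equiv_quot_center`: if `ψ : S →* A` is onto a simple group with kernel the centre of `S`, then every
non-commutative homomorphic image `Γ` of `S` has `Γ ⧸ centre ≃* A`. (Same argument as
`Cfsg.Agent.Helper7.B2O.nonempty_equiv_quot_center`, restated here so that the closure of S1084 stays small.)
-/

set_option autoImplicit false

namespace Cfsg.Agent.E6C

theorem e6cb_nonempty_equiv_quot_center {S A Γ : Type*} [Group S] [Group A] [Group Γ] [IsSimpleGroup A]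
    (ψ : S →* A) (hψ : Function.Surjective ψ) (hker : ψ.ker = Subgroup.center S)
    (φ : S →* Γ) (hφ : Function.Surjective φ) (hna : ∃ x y : Γ, x * y ≠ y * x) :
    Nonempty (Γ ⧸ Subgroup.center Γ ≃* A) := by
  obtain ⟨φb, hφb⟩ : ∃ φb : S →* Γ ⧸ Subgroup.center Γ,
      φb = (QuotientGroup.mk' (Subgroup.center Γ)).comp φ := ⟨_, rfl⟩
  have hle : ψ.ker ≤ φb.ker := by
    rw [hker]
    intro z hz
    rw [MonoidHom.mem_ker, hφb, MonoidHom.comp_apply, QuotientGroup.mk'_apply,
      QuotientGroup.eq_one_iff, Subgroup.mem_center_iff]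
    intro g
    obtain ⟨s, rfl⟩ := hφ g
    rw [← map_mul, ← map_mul, Subgroup.mem_center_iff.mp hz s]
  obtain ⟨θ, hθ_def⟩ : ∃ θ : A →* Γ ⧸ Subgroup.center Γ, θ = ψ.liftOfSurjective hψ ⟨φb, hle⟩ :=
    ⟨_, rfl⟩
  have hθ : ∀ s, θ (ψ s) = φb s := by
    intro s
    rw [hθ_def]
    exact MonoidHom.liftOfRightInverse_comp_apply ψ _ (Function.rightInverse_surjInv hψ) ⟨φb, hle⟩ s
  have hsurj : Function.Surjective θ := by
    intro y
    obtain ⟨γ, rfl⟩ := QuotientGroup.mk_surjective y
    obtain ⟨s, rfl⟩ := hφ γ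
    exact ⟨ψ s, by rw [hθ, hφb]; rfl⟩
  have hinj : Function.Injective θ := by
    rw [← MonoidHom.ker_eq_bot_iff]
    rcases θ.normal_ker.eq_bot_or_eq_top with h | h
    · exact h
    · exfalso
      obtain ⟨x, y, hxy⟩ := hna
      apply hxy
      obtain ⟨s, rfl⟩ := hφ x
      have h1 : θ (ψ s) = 1 := by
        have : ψ s ∈ θ.ker := by rw [h]; exact Subgroup.mem_top _
        exact this
      rw [hθ, hφb, MonoidHom.comp_apply, QuotientGroup.mk'_apply, QuotientGroup.eq_one_iff,
        Subgroup.mem_center_iff] at h1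
      exact (h1 y).symm
  exact ⟨(MulEquiv.ofBijective θ ⟨hinj, hsurj⟩).symm⟩

end Cfsg.Agent.E6C
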