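import Mathlib
import Cfsg.Prelude.Def_E6
import Cfsg.Agent.E6C.Defs

set_option autoImplicit false
set_option linter.unusedVariables false

/-!
# S1084 (E₆ via the cubic form in 27 variables): the form layer

* on top of `E6C/Defs.lean` (`e6c_dec`, `e6c_tri`, `e6c_cub`, `e6c_cubicT_eq`);
* `e6c_f1 x y`, the derivative of the form at `x` in the direction `y` (the coefficient of `s² t`
  in the form of `s x + t y`), `e6c_L x y z`, the full polarization; the expansions `e6c_cub_add`,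
  `e6c_cub_smul_add`, `e6c_f1_add_right`, `e6c_f1_add_left`, `e6c_L_eq`;
* invariance under the stabilizer of the form: `e6c_L_inv` (any commutative ring), `e6c_f1_inv` (a field
  with an element other than `0` and `1`), `e6c_exists_ne` (such an element exists when the field
  has at least 3 elements);
* `e6c_Sing`, singular vectors; `e6c_sing_inv`.
-/

namespace Cfsg.Agent.E6C

open Cfsg Cfsg.Lie Matrix

section Ring

variable {F : Type*} [CommRing F]

/-- the sum over a list of signed triads of the products of three coordinates. -/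
def e6c_cubL (l : List (ℕ × ℕ × ℕ × ℤ)) (v : I27 → F) : F :=
  (l.map (fun t => (t.2.2.2 : F) *
    (v (e6c_dec t.1) * v (e6c_dec t.2.1) * v (e6c_dec t.2.2.1)))).sum

/-- the derivative of the form of a list of triads at `x` in the direction `y`. -/
def e6c_f1L (l : List (ℕ × ℕ × ℕ × ℤ)) (x y : I27 → F) : F :=
  (l.map (fun t => (t.2.2.2 : F) *
    (y (e6c_dec t.1) * x (e6c_dec t.2.1) * x (e6c_dec t.2.2.1) +
      x (e6c_dec t.1) * y (e6c_dec t.2.1) * x (e6c_dec t.2.2.1) +
      x (e6c_dec t.1) * x (e6c_dec t.2.1) * y (e6c_dec t.2.2.1)))).sum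

/-- the full polarization of the form of a list of triads. -/
def e6c_LL (l : List (ℕ × ℕ × ℕ × ℤ)) (x y z : I27 → F) : F :=
  (l.map (fun t => (t.2.2.2 : F) *
    (x (e6c_dec t.1) * y (e6c_dec t.2.1) * z (e6c_dec t.2.2.1) +
      x (e6c_dec t.1) * z (e6c_dec t.2.1) * y (e6c_dec t.2.2.1) +
      y (e6c_dec t.1) * x (e6c_dec t.2.1) * z (e6c_dec t.2.2.1) +
      y (e6c_dec t.1) * z (e6c_dec t.2.1) * x (e6c_dec t.2.2.1) +
      z (e6c_dec t.1) * x (e6c_dec t.2.1) * y (e6c_dec t.2.2.1) +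
      z (e6c_dec t.1) * y (e6c_dec t.2.1) * x (e6c_dec t.2.2.1)))).sum

theorem e6c_cubL_add (l : List (ℕ × ℕ × ℕ × ℤ)) (x y : I27 → F) :
    e6c_cubL l (x + y) = e6c_cubL l x + e6c_f1L l x y + e6c_f1L l y x + e6c_cubL l y := by
  induction l with
  | nil => simp [e6c_cubL, e6c_f1L]
  | cons t l ih =>
    simp only [e6c_cubL, e6c_f1L, List.map_cons, List.sum_cons, Pi.add_apply] at ih ⊢
    rw [ih]
    ring

theorem e6c_cubL_smul (l : List (ℕ × ℕ × ℕ × ℤ)) (s : F) (x : I27 → F) :
    e6c_cubL l (s • x) = s ^ 3 * e6c_cubL l x := by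
  induction l with
  | nil => simp [e6c_cubL]
  | cons t l ih =>
    simp only [e6c_cubL, List.map_cons, List.sum_cons, Pi.smul_apply, smul_eq_mul] at ih ⊢
    rw [ih]
    ring

theorem e6c_f1L_smul_left (l : List (ℕ × ℕ × ℕ × ℤ)) (s : F) (x y : I27 → F) :
    e6c_f1L l (s • x) y = s ^ 2 * e6c_f1L l x y := by
  induction l with
  | nil => simp [e6c_f1L]
  | cons t l ih =>
    simp only [e6c_f1L, List.map_cons, List.sum_cons, Pi.smul_apply, smul_eq_mul] at ih ⊢
    rw [ih]
    ring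

theorem e6c_f1L_smul_right (l : List (ℕ × ℕ × ℕ × ℤ)) (s : F) (x y : I27 → F) :
    e6c_f1L l x (s • y) = s * e6c_f1L l x y := by
  induction l with
  | nil => simp [e6c_f1L]
  | cons t l ih =>
    simp only [e6c_f1L, List.map_cons, List.sum_cons, Pi.smul_apply, smul_eq_mul] at ih ⊢
    rw [ih]
    ring

theorem e6c_f1L_add_right (l : List (ℕ × ℕ × ℕ × ℤ)) (x y z : I27 → F) :
    e6c_f1L l x (y + z) = e6c_f1L l x y + e6c_f1L l x z := by
  induction l with
  | nil => simp [e6c_f1L]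
  | cons t l ih =>
    simp only [e6c_f1L, List.map_cons, List.sum_cons, Pi.add_apply] at ih ⊢
    rw [ih]
    ring

theorem e6c_f1L_add_left (l : List (ℕ × ℕ × ℕ × ℤ)) (x y z : I27 → F) :
    e6c_f1L l (x + y) z = e6c_f1L l x z + e6c_f1L l y z + e6c_LL l x y z := by
  induction l with
  | nil => simp [e6c_f1L, e6c_LL]
  | cons t l ih =>
    simp only [e6c_f1L, e6c_LL, List.map_cons, List.sum_cons, Pi.add_apply] at ih ⊢
    rw [ih]
    ring

theorem e6c_LL_eq (l : List (ℕ × ℕ × ℕ × ℤ)) (x y z : I27 → F) :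
    e6c_LL l x y z = e6c_cubL l (x + y + z) - e6c_cubL l (x + y) - e6c_cubL l (x + z) -
      e6c_cubL l (y + z) + e6c_cubL l x + e6c_cubL l y + e6c_cubL l z := by
  induction l with
  | nil => simp [e6c_cubL, e6c_LL]
  | cons t l ih =>
    simp only [e6c_cubL, e6c_LL, List.map_cons, List.sum_cons, Pi.add_apply] at ih ⊢
    rw [ih]
    ring

theorem e6c_f1L_zero_right (l : List (ℕ × ℕ × ℕ × ℤ)) (x : I27 → F) : e6c_f1L l x 0 = 0 := by
  induction l with
  | nil => simp [e6c_f1L]
  | cons t l ih =>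
    simp only [e6c_f1L, List.map_cons, List.sum_cons, Pi.zero_apply] at ih ⊢
    rw [ih]
    ring

/-- the derivative of the cubic form at `x` in the direction `y`. -/
def e6c_f1 (x y : I27 → F) : F := e6c_f1L e6c_tri x y

/-- the full polarization of the cubic form. -/
def e6c_L (x y z : I27 → F) : F := e6c_LL e6c_tri x y z

theorem e6c_cub_eq_cubL (v : I27 → F) : e6c_cub v = e6c_cubL e6c_tri v := by
  unfold e6c_cub e6c_cubL
  congr 1
  apply List.map_congr_left
  intro t _
  ring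

theorem e6c_cub_add (x y : I27 → F) :
    e6c_cub (x + y) = e6c_cub x + e6c_f1 x y + e6c_f1 y x + e6c_cub y := by
  rw [e6c_cub_eq_cubL, e6c_cub_eq_cubL, e6c_cub_eq_cubL]
  exact e6c_cubL_add _ x y

theorem e6c_cub_smul (s : F) (x : I27 → F) : e6c_cub (s • x) = s ^ 3 * e6c_cub x := by
  rw [e6c_cub_eq_cubL, e6c_cub_eq_cubL]
  exact e6c_cubL_smul _ s x

theorem e6c_f1_smul_left (s : F) (x y : I27 → F) : e6c_f1 (s • x) y = s ^ 2 * e6c_f1 x y :=
  e6c_f1L_smul_left _ s x y

theorem e6c_f1_smul_right (s : F) (x y : I27 → F) : e6c_f1 x (s • y) = s * e6c_f1 x y :=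
  e6c_f1L_smul_right _ s x y

theorem e6c_f1_add_right (x y z : I27 → F) : e6c_f1 x (y + z) = e6c_f1 x y + e6c_f1 x z :=
  e6c_f1L_add_right _ x y z

theorem e6c_f1_add_left (x y z : I27 → F) :
    e6c_f1 (x + y) z = e6c_f1 x z + e6c_f1 y z + e6c_L x y z := e6c_f1L_add_left _ x y z

theorem e6c_f1_zero_right (x : I27 → F) : e6c_f1 x 0 = 0 := e6c_f1L_zero_right _ x

theorem e6c_L_eq (x y z : I27 → F) :
    e6c_L x y z = e6c_cub (x + y + z) - e6c_cub (x + y) - e6c_cub (x + z) - e6c_cub (y + z) +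
      e6c_cub x + e6c_cub y + e6c_cub z := by
  simp only [e6c_cub_eq_cubL]
  exact e6c_LL_eq _ x y z

theorem e6c_cub_smul_add (s : F) (x y : I27 → F) :
    e6c_cub (s • x + y) = s ^ 3 * e6c_cub x + s ^ 2 * e6c_f1 x y + s * e6c_f1 y x + e6c_cub y := by
  rw [e6c_cub_add, e6c_cub_smul, e6c_f1_smul_left, e6c_f1_smul_right]

/-- the stabilizer of the form preserves the sum over the triads. -/
theorem e6c_cub_inv {g : GL I27 F} (hg : g ∈ funStab F (cubicT (F := F))) (v : I27 → F) :
    e6c_cub ((g : Matrix I27 I27 F) *ᵥ v) = e6c_cub v := by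
  rw [← e6c_cubicT_eq, ← e6c_cubicT_eq]
  exact hg v

/-- the stabilizer of the form preserves the full polarization. -/
theorem e6c_L_inv {g : GL I27 F} (hg : g ∈ funStab F (cubicT (F := F))) (x y z : I27 → F) :
    e6c_L ((g : Matrix I27 I27 F) *ᵥ x) ((g : Matrix I27 I27 F) *ᵥ y)
      ((g : Matrix I27 I27 F) *ᵥ z) = e6c_L x y z := by
  rw [e6c_L_eq, e6c_L_eq]
  simp only [← Matrix.mulVec_add, e6c_cub_inv hg]

end Ring

section Field

variable {F : Type*} [Field F]

/-- the stabilizer of the form preserves the derivative, over a field with an element other than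
`0` and `1`. -/
theorem e6c_f1_inv {s : F} (hs0 : s ≠ 0) (hs1 : s ≠ 1) {g : GL I27 F}
    (hg : g ∈ funStab F (cubicT (F := F))) (x y : I27 → F) :
    e6c_f1 ((g : Matrix I27 I27 F) *ᵥ x) ((g : Matrix I27 I27 F) *ᵥ y) = e6c_f1 x y := by
  have key : ∀ x y : I27 → F, (s ^ 2 - s) * e6c_f1 x y =
      e6c_cub (s • x + y) - s ^ 3 * e6c_cub x - e6c_cub y -
        s * (e6c_cub (x + y) - e6c_cub x - e6c_cub y) := by
    intro x y
    rw [e6c_cub_smul_add, e6c_cub_add]
    ring
  have h1 := key ((g : Matrix I27 I27 F) *ᵥ x) ((g : Matrix I27 I27 F) *ᵥ y)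
  rw [← Matrix.mulVec_smul, ← Matrix.mulVec_add, ← Matrix.mulVec_add, e6c_cub_inv hg,
    e6c_cub_inv hg, e6c_cub_inv hg, e6c_cub_inv hg, ← key x y] at h1
  have hne : s ^ 2 - s ≠ 0 := by
    have : s ^ 2 - s = s * (s - 1) := by ring
    rw [this]
    exact mul_ne_zero hs0 (sub_ne_zero.mpr hs1)
  exact mul_left_cancel₀ hne h1

/-- a field with at least 3 elements has an element other than `0` and `1`. -/
theorem e6c_exists_ne [Fintype F] (hF : 3 ≤ Fintype.card F) : ∃ s : F, s ≠ 0 ∧ s ≠ 1 := by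
  classical
  by_contra hcon0
  have hcon : ∀ s : F, s ≠ 0 → s = 1 := by
    intro s h0
    by_contra h1
    exact hcon0 ⟨s, h0, h1⟩
  have hsub : (Finset.univ : Finset F) ⊆ {0, 1} := by
    intro s _
    by_cases h : s = 0
    · rw [h]; simp
    · rw [hcon s h]; simp
  have h1 := Finset.card_le_card hsub
  have h2 : ({0, 1} : Finset F).card ≤ 2 := Finset.card_le_two
  rw [Finset.card_univ] at h1
  omega

/-- singular vectors: the derivative of the form vanishes. -/
def e6c_Sing (x : I27 → F) : Prop := ∀ y : I27 → F, e6c_f1 x y = 0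

/-- the stabilizer of the form preserves the singular vectors. -/
theorem e6c_sing_inv {s : F} (hs0 : s ≠ 0) (hs1 : s ≠ 1) {g : GL I27 F}
    (hg : g ∈ funStab F (cubicT (F := F))) {x : I27 → F} (hx : e6c_Sing x) :
    e6c_Sing ((g : Matrix I27 I27 F) *ᵥ x) := by
  intro y
  have h1 := e6c_f1_inv hs0 hs1 hg x (((g⁻¹ : GL I27 F) : Matrix I27 I27 F) *ᵥ y)
  rw [Matrix.mulVec_mulVec, ← Units.val_mul, mul_inv_cancel, Units.val_one, Matrix.one_mulVec] at h1
  rw [h1]
  exact hx _

end Field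

end Cfsg.Agent.E6C
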