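import Mathlib
import Cfsg.Agent.E6C.Root
import Cfsg.Agent.E6C.Form

set_option autoImplicit false
set_option linter.unusedSectionVars false
set_option linter.unusedVariables false

/-!
# S1084, A3: the root elements `X_r(t) = 1 + t E_r` preserve the cubic form (helper9)

`cub (v + t E v) = cub v + t f1(v; E v) + t² f1(E v; v) + t³ cub (E v)`; the last two terms vanish because no
monomial of the form contains two targets of `E_r` (`e6c_twoChk`), the first because its monomials cancel in pairs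
(`e6c_cancelChk` on the list `e6c_terms`); both are checked on the tables for the 72 roots by one `decide +kernel`.

Main statement: `e6c_X_mem (r : ℕ) (t : F) : e6c_X r t ∈ E6univ F`.
-/

namespace Cfsg.Agent.E6C

open Cfsg Cfsg.Lie Matrix

section Ring

variable {F : Type*} [CommRing F]

/-- the vector with coordinates `ε v_c` at the indices `x` with `p x = some (c, ε)`, and `0` elsewhere. -/
def e6c_pullV (p : ℕ → Option (ℕ × ℤ)) (v : I27 → F) : I27 → F := fun x =>
  match p (e6c_enc x) with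
  | none => 0
  | some e => ((e.2 : ℤ) : F) * v (e6c_dec e.1)

theorem e6c_pullV_none {p : ℕ → Option (ℕ × ℤ)} (v : I27 → F) {a : ℕ} (ha : a < 27) (h : p a = none) :
    e6c_pullV p v (e6c_dec a) = 0 := by
  unfold e6c_pullV
  rw [e6c_enc_dec a ha, h]

theorem e6c_pullV_some {p : ℕ → Option (ℕ × ℤ)} (v : I27 → F) {a : ℕ} (ha : a < 27) {e : ℕ × ℤ}
    (h : p a = some e) : e6c_pullV p v (e6c_dec a) = ((e.2 : ℤ) : F) * v (e6c_dec e.1) := by
  unfold e6c_pullV
  rw [e6c_enc_dec a ha, h]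

/-- the indices of a list of monomials are `< 27`. -/
def e6c_idxOK (l : List (ℕ × ℕ × ℕ × ℤ)) : Prop := ∀ t ∈ l, t.1 < 27 ∧ t.2.1 < 27 ∧ t.2.2.1 < 27

/-- no monomial of the list contains two indices in the domain of `p`. -/
def e6c_twoChk (p : ℕ → Option (ℕ × ℤ)) (l : List (ℕ × ℕ × ℕ × ℤ)) : Bool :=
  l.all (fun t => ((p t.1).isNone && (p t.2.1).isNone) || ((p t.1).isNone && (p t.2.2.1).isNone) ||
    ((p t.2.1).isNone && (p t.2.2.1).isNone))

theorem e6c_idxOK_cons {t : ℕ × ℕ × ℕ × ℤ} {l : List (ℕ × ℕ × ℕ × ℤ)} (h : e6c_idxOK (t :: l)) :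
    (t.1 < 27 ∧ t.2.1 < 27 ∧ t.2.2.1 < 27) ∧ e6c_idxOK l :=
  ⟨h t List.mem_cons_self, fun s hs => h s (List.mem_cons_of_mem _ hs)⟩

theorem e6c_two_zero {p : ℕ → Option (ℕ × ℤ)} {t : ℕ × ℕ × ℕ × ℤ}
    (ht : t.1 < 27 ∧ t.2.1 < 27 ∧ t.2.2.1 < 27)
    (h : (((p t.1).isNone && (p t.2.1).isNone) || ((p t.1).isNone && (p t.2.2.1).isNone) ||
      ((p t.2.1).isNone && (p t.2.2.1).isNone)) = true) (v : I27 → F) :
    (e6c_pullV p v (e6c_dec t.1) = 0 ∧ e6c_pullV p v (e6c_dec t.2.1) = 0) ∨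
      (e6c_pullV p v (e6c_dec t.1) = 0 ∧ e6c_pullV p v (e6c_dec t.2.2.1) = 0) ∨
      (e6c_pullV p v (e6c_dec t.2.1) = 0 ∧ e6c_pullV p v (e6c_dec t.2.2.1) = 0) := by
  simp only [Bool.or_eq_true, Bool.and_eq_true, Option.isNone_iff_eq_none] at h
  rcases h with (h | h) | h
  · exact Or.inl ⟨e6c_pullV_none v ht.1 h.1, e6c_pullV_none v ht.2.1 h.2⟩
  · exact Or.inr (Or.inl ⟨e6c_pullV_none v ht.1 h.1, e6c_pullV_none v ht.2.2 h.2⟩)
  · exact Or.inr (Or.inr ⟨e6c_pullV_none v ht.2.1 h.1, e6c_pullV_none v ht.2.2 h.2⟩)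

theorem e6c_cubL_pull_zero {p : ℕ → Option (ℕ × ℤ)} {l : List (ℕ × ℕ × ℕ × ℤ)} (hl : e6c_idxOK l)
    (h : e6c_twoChk p l = true) (v : I27 → F) : e6c_cubL l (e6c_pullV p v) = 0 := by
  induction l with
  | nil => simp [e6c_cubL]
  | cons t l ih =>
    obtain ⟨ht, hl'⟩ := e6c_idxOK_cons hl
    unfold e6c_twoChk at h
    rw [List.all_cons, Bool.and_eq_true] at h
    have ih' := ih hl' h.2
    simp only [e6c_cubL, List.map_cons, List.sum_cons] at ih' ⊢
    rw [ih', add_zero]
    rcases e6c_two_zero ht h.1 v with ⟨h1, h2⟩ | ⟨h1, h2⟩ | ⟨h1, h2⟩ <;> rw [h1, h2] <;> ring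

theorem e6c_f1L_pull_zero {p : ℕ → Option (ℕ × ℤ)} {l : List (ℕ × ℕ × ℕ × ℤ)} (hl : e6c_idxOK l)
    (h : e6c_twoChk p l = true) (v y : I27 → F) : e6c_f1L l (e6c_pullV p v) y = 0 := by
  induction l with
  | nil => simp [e6c_f1L]
  | cons t l ih =>
    obtain ⟨ht, hl'⟩ := e6c_idxOK_cons hl
    unfold e6c_twoChk at h
    rw [List.all_cons, Bool.and_eq_true] at h
    have ih' := ih hl' h.2
    simp only [e6c_f1L, List.map_cons, List.sum_cons] at ih' ⊢
    rw [ih', add_zero]
    rcases e6c_two_zero ht h.1 v with ⟨h1, h2⟩ | ⟨h1, h2⟩ | ⟨h1, h2⟩ <;> rw [h1, h2] <;> ring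

/-! ### cubic monomials and their cancellation -/

/-- the value of a list of monomials `(k, i, j, l)`, standing for `k v_i v_j v_l`. -/
def e6c_polyEval (L : List (ℤ × ℕ × ℕ × ℕ)) (v : I27 → F) : F :=
  (L.map (fun m => ((m.1 : ℤ) : F) *
    (v (e6c_dec m.2.1) * v (e6c_dec m.2.2.1) * v (e6c_dec m.2.2.2)))).sum

/-- sorting three indices. -/
def e6c_sort3 (i j k : ℕ) : ℕ × ℕ × ℕ :=
  if i ≤ j then (if j ≤ k then (i, j, k) else if i ≤ k then (i, k, j) else (k, i, j))
  else (if i ≤ k then (j, i, k) else if j ≤ k then (j, k, i) else (k, j, i))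

theorem e6c_sort3_mono (v : I27 → F) (i j k : ℕ) :
    v (e6c_dec (e6c_sort3 i j k).1) * v (e6c_dec (e6c_sort3 i j k).2.1) *
      v (e6c_dec (e6c_sort3 i j k).2.2) = v (e6c_dec i) * v (e6c_dec j) * v (e6c_dec k) := by
  unfold e6c_sort3
  split_ifs <;> ring

/-- the check that the monomials of a list cancel in pairs. -/
def e6c_cancelChk : ℕ → List (ℤ × ℕ × ℕ × ℕ) → Bool
  | _, [] => true
  | 0, _ :: _ => false
  | n + 1, m :: rest =>
    match rest.find? (fun m' => (e6c_sort3 m'.2.1 m'.2.2.1 m'.2.2.2 == e6c_sort3 m.2.1 m.2.2.1 m.2.2.2) &&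
        (m'.1 + m.1 == 0)) with
    | none => false
    | some m' => e6c_cancelChk n (rest.erase m')

theorem e6c_cancel_sound (v : I27 → F) : ∀ (n : ℕ) (L : List (ℤ × ℕ × ℕ × ℕ)),
    e6c_cancelChk n L = true → e6c_polyEval L v = 0 := by
  intro n
  induction n with
  | zero =>
    intro L h
    cases L with
    | nil => simp [e6c_polyEval]
    | cons m rest => simp [e6c_cancelChk] at h
  | succ n ih =>
    intro L h
    cases L with
    | nil => simp [e6c_polyEval]
    | cons m rest =>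
      simp only [e6c_cancelChk] at h
      cases hf : rest.find? (fun m' => (e6c_sort3 m'.2.1 m'.2.2.1 m'.2.2.2 ==
          e6c_sort3 m.2.1 m.2.2.1 m.2.2.2) && (m'.1 + m.1 == 0)) with
      | none => rw [hf] at h; exact absurd h (by simp)
      | some m' =>
        rw [hf] at h
        have hmem : m' ∈ rest := List.mem_of_find?_eq_some hf
        have hp := List.find?_some hf
        simp only [Bool.and_eq_true, beq_iff_eq] at hp
        obtain ⟨hkey, hcoef⟩ := hp
        have hperm : rest.Perm (m' :: rest.erase m') := List.perm_cons_erase hmem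
        have hsum : e6c_polyEval rest v = e6c_polyEval (m' :: rest.erase m') v := by
          unfold e6c_polyEval
          exact (hperm.map _).sum_eq
        have ih' := ih _ h
        have hmono : v (e6c_dec m'.2.1) * v (e6c_dec m'.2.2.1) * v (e6c_dec m'.2.2.2) =
            v (e6c_dec m.2.1) * v (e6c_dec m.2.2.1) * v (e6c_dec m.2.2.2) := by
          rw [← e6c_sort3_mono v m'.2.1, ← e6c_sort3_mono v m.2.1, hkey]
        have hc : ((m'.1 : ℤ) : F) + ((m.1 : ℤ) : F) = 0 := by
          rw [← Int.cast_add, hcoef, Int.cast_zero]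
        have e1 : e6c_polyEval (m :: rest) v = ((m.1 : ℤ) : F) *
            (v (e6c_dec m.2.1) * v (e6c_dec m.2.2.1) * v (e6c_dec m.2.2.2)) + e6c_polyEval rest v := by
          simp [e6c_polyEval]
        have e2 : e6c_polyEval (m' :: rest.erase m') v = ((m'.1 : ℤ) : F) *
            (v (e6c_dec m'.2.1) * v (e6c_dec m'.2.2.1) * v (e6c_dec m'.2.2.2)) +
              e6c_polyEval (rest.erase m') v := by
          simp [e6c_polyEval]
        rw [e1, hsum, e2, ih', add_zero, hmono, ← add_mul, add_comm, hc, zero_mul]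

/-- the monomials of `f1(v; pullV p v)` coming from one monomial of the form. -/
def e6c_termsOf (p : ℕ → Option (ℕ × ℤ)) (t : ℕ × ℕ × ℕ × ℤ) : List (ℤ × ℕ × ℕ × ℕ) :=
  (match p t.1 with
    | some e => [(t.2.2.2 * e.2, e.1, t.2.1, t.2.2.1)]
    | none => []) ++
  ((match p t.2.1 with
    | some e => [(t.2.2.2 * e.2, t.1, e.1, t.2.2.1)]
    | none => []) ++
  (match p t.2.2.1 with
    | some e => [(t.2.2.2 * e.2, t.1, t.2.1, e.1)]
    | none => []))

/-- the monomials of `f1(v; pullV p v)`. -/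
def e6c_terms (p : ℕ → Option (ℕ × ℤ)) (l : List (ℕ × ℕ × ℕ × ℤ)) : List (ℤ × ℕ × ℕ × ℕ) :=
  l.flatMap (e6c_termsOf p)

theorem e6c_polyEval_append (L L' : List (ℤ × ℕ × ℕ × ℕ)) (v : I27 → F) :
    e6c_polyEval (L ++ L') v = e6c_polyEval L v + e6c_polyEval L' v := by
  unfold e6c_polyEval
  rw [List.map_append, List.sum_append]

theorem e6c_f1L_pull_eq {p : ℕ → Option (ℕ × ℤ)} {l : List (ℕ × ℕ × ℕ × ℤ)} (hl : e6c_idxOK l)
    (v : I27 → F) : e6c_f1L l v (e6c_pullV p v) = e6c_polyEval (e6c_terms p l) v := by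
  induction l with
  | nil => simp [e6c_f1L, e6c_terms, e6c_polyEval]
  | cons t l ih =>
    obtain ⟨ht, hl'⟩ := e6c_idxOK_cons hl
    have ih' := ih hl'
    unfold e6c_terms at ih' ⊢
    rw [List.flatMap_cons, e6c_polyEval_append, ← ih']
    simp only [e6c_f1L, List.map_cons, List.sum_cons]
    congr 1
    unfold e6c_termsOf
    rw [e6c_polyEval_append, e6c_polyEval_append]
    -- the three positions
    have h1 : e6c_polyEval (match p t.1 with
        | some e => [(t.2.2.2 * e.2, e.1, t.2.1, t.2.2.1)]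
        | none => []) v = ((t.2.2.2 : ℤ) : F) * (e6c_pullV p v (e6c_dec t.1) * v (e6c_dec t.2.1) *
          v (e6c_dec t.2.2.1)) := by
      cases hp : p t.1 with
      | none => rw [e6c_pullV_none v ht.1 hp]; simp [e6c_polyEval]
      | some e =>
        rw [e6c_pullV_some v ht.1 hp]
        simp only [e6c_polyEval, List.map_cons, List.map_nil, List.sum_cons, List.sum_nil, add_zero]
        push_cast
        ring
    have h2 : e6c_polyEval (match p t.2.1 with
        | some e => [(t.2.2.2 * e.2, t.1, e.1, t.2.2.1)]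
        | none => []) v = ((t.2.2.2 : ℤ) : F) * (v (e6c_dec t.1) * e6c_pullV p v (e6c_dec t.2.1) *
          v (e6c_dec t.2.2.1)) := by
      cases hp : p t.2.1 with
      | none => rw [e6c_pullV_none v ht.2.1 hp]; simp [e6c_polyEval]
      | some e =>
        rw [e6c_pullV_some v ht.2.1 hp]
        simp only [e6c_polyEval, List.map_cons, List.map_nil, List.sum_cons, List.sum_nil, add_zero]
        push_cast
        ring
    have h3 : e6c_polyEval (match p t.2.2.1 with
        | some e => [(t.2.2.2 * e.2, t.1, t.2.1, e.1)]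
        | none => []) v = ((t.2.2.2 : ℤ) : F) * (v (e6c_dec t.1) * v (e6c_dec t.2.1) *
          e6c_pullV p v (e6c_dec t.2.2.1)) := by
      cases hp : p t.2.2.1 with
      | none => rw [e6c_pullV_none v ht.2.2 hp]; simp [e6c_polyEval]
      | some e =>
        rw [e6c_pullV_some v ht.2.2 hp]
        simp only [e6c_polyEval, List.map_cons, List.map_nil, List.sum_cons, List.sum_nil, add_zero]
        push_cast
        ring
    rw [h1, h2, h3]
    ring

/-- the check for the root `r`: `p` is the transposed map of `E_r`. -/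
def e6c_invChk (r : ℕ) : Bool :=
  e6c_twoChk (e6c_step (71 - r)) e6c_tri &&
    e6c_cancelChk 100 (e6c_terms (e6c_step (71 - r)) e6c_tri)

theorem e6c_tri_idxOK : e6c_idxOK e6c_tri := by
  unfold e6c_idxOK
  decide

theorem e6c_invChk_all : ∀ r < 72, e6c_invChk r = true := by decide +kernel

/-- the invariance of the form under `v ↦ v + t • pullV p v`, from the two checks. -/
theorem e6c_cub_pull {p : ℕ → Option (ℕ × ℤ)} (h2 : e6c_twoChk p e6c_tri = true)
    (hc : e6c_cancelChk 100 (e6c_terms p e6c_tri) = true) (t : F) (v : I27 → F) :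
    e6c_cub (v + t • e6c_pullV p v) = e6c_cub v := by
  rw [e6c_cub_add, e6c_f1_smul_right, e6c_f1_smul_left, e6c_cub_smul, e6c_cub_eq_cubL (e6c_pullV p v),
    e6c_cubL_pull_zero e6c_tri_idxOK h2]
  unfold e6c_f1
  rw [e6c_f1L_pull_zero e6c_tri_idxOK h2, e6c_f1L_pull_eq e6c_tri_idxOK,
    e6c_cancel_sound v 100 _ hc]
  ring

end Ring

section Field

variable {F : Type*} [Field F]

theorem e6c_E_mulVec {r : ℕ} (hr : r < 72) (v : I27 → F) :
    e6c_E F r *ᵥ v = e6c_pullV (e6c_step (71 - r)) v := by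
  funext x
  unfold e6c_E e6c_pullV
  exact e6c_spm_mulVec (e6c_step_bdd hr) (e6c_step_bdd (by omega)) (e6c_step_tr hr) v x

/-- A3: the root elements preserve the cubic form. -/
theorem e6c_X_mem (r : ℕ) (t : F) : e6c_X r t ∈ E6univ F := by
  by_cases hr : r < 72
  · intro v
    change cubicT (e6c_XM F r t *ᵥ v) = cubicT v
    rw [e6c_cubicT_eq, e6c_cubicT_eq]
    unfold e6c_XM
    rw [Matrix.add_mulVec, Matrix.one_mulVec, Matrix.smul_mulVec, e6c_E_mulVec hr]
    have h := e6c_invChk_all r hr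
    unfold e6c_invChk at h
    rw [Bool.and_eq_true] at h
    exact e6c_cub_pull h.1 h.2 t v
  · rw [e6c_X_ge hr]
    exact one_mem _

end Field

end Cfsg.Agent.E6C
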