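import Mathlib
import Cfsg.Agent.E6C.Tor
import Cfsg.Agent.E6C.Inv

set_option autoImplicit false
set_option linter.unusedSectionVars false
set_option linter.unusedVariables false

/-!
# S1084: the torus end-game (helper9)

A diagonal element of the stabilizer of the cubic form lies in the group generated by the root elements:
`e6c_diag_mem_G0 (g : GL I27 F) (hg : g ∈ E6univ F) (hd : ∀ i j, i ≠ j → g i j = 0) : g ∈ e6c_G0 F`.

The diagonal entries satisfy `d_a d_b d_c = 1` on the 45 monomials (invariance of the full polarization of the form,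
no hypothesis on the field); six torus elements `h_r(t)` normalize six entries to `1` one after the other
(`e6c_torSeq`), and the 27 indices are the closure of these six under "two indices of a monomial give the third".
-/

namespace Cfsg.Agent.E6C

open Cfsg Cfsg.Lie Matrix

section Ring

variable {F : Type*} [CommRing F]

theorem e6c_LL_smul1 (l : List (ℕ × ℕ × ℕ × ℤ)) (s : F) (x y z : I27 → F) :
    e6c_LL l (s • x) y z = s * e6c_LL l x y z := by
  induction l with
  | nil => simp [e6c_LL]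
  | cons t l ih =>
    simp only [e6c_LL, List.map_cons, List.sum_cons, Pi.smul_apply, smul_eq_mul] at ih ⊢
    rw [ih]
    ring

theorem e6c_LL_smul2 (l : List (ℕ × ℕ × ℕ × ℤ)) (s : F) (x y z : I27 → F) :
    e6c_LL l x (s • y) z = s * e6c_LL l x y z := by
  induction l with
  | nil => simp [e6c_LL]
  | cons t l ih =>
    simp only [e6c_LL, List.map_cons, List.sum_cons, Pi.smul_apply, smul_eq_mul] at ih ⊢
    rw [ih]
    ring

theorem e6c_LL_smul3 (l : List (ℕ × ℕ × ℕ × ℤ)) (s : F) (x y z : I27 → F) :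
    e6c_LL l x y (s • z) = s * e6c_LL l x y z := by
  induction l with
  | nil => simp [e6c_LL]
  | cons t l ih =>
    simp only [e6c_LL, List.map_cons, List.sum_cons, Pi.smul_apply, smul_eq_mul] at ih ⊢
    rw [ih]
    ring

/-- the indicator of the equality of two indices. -/
def e6c_ind (p a : ℕ) : ℤ := if p = a then 1 else 0

theorem e6c_e_dec {p a : ℕ} (hp : p < 27) (ha : a < 27) :
    e6c_e F a (e6c_dec p) = ((e6c_ind p a : ℤ) : F) := by
  unfold e6c_e e6c_ind
  rw [Pi.single_apply]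
  by_cases h : p = a
  · rw [if_pos h, if_pos (by rw [h]), Int.cast_one]
  · rw [if_neg h, if_neg, Int.cast_zero]
    intro h'
    apply h
    rw [← e6c_enc_dec p hp, ← e6c_enc_dec a ha, h']

/-- the coefficient of `x_a y_b z_c` in the full polarization. -/
def e6c_Lc (l : List (ℕ × ℕ × ℕ × ℤ)) (a b c : ℕ) : ℤ :=
  (l.map (fun t => t.2.2.2 *
    (e6c_ind t.1 a * e6c_ind t.2.1 b * e6c_ind t.2.2.1 c +
      e6c_ind t.1 a * e6c_ind t.2.1 c * e6c_ind t.2.2.1 b +
      e6c_ind t.1 b * e6c_ind t.2.1 a * e6c_ind t.2.2.1 c +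
      e6c_ind t.1 b * e6c_ind t.2.1 c * e6c_ind t.2.2.1 a +
      e6c_ind t.1 c * e6c_ind t.2.1 a * e6c_ind t.2.2.1 b +
      e6c_ind t.1 c * e6c_ind t.2.1 b * e6c_ind t.2.2.1 a))).sum

theorem e6c_LL_basis {l : List (ℕ × ℕ × ℕ × ℤ)} (hl : e6c_idxOK l) {a b c : ℕ} (ha : a < 27)
    (hb : b < 27) (hc : c < 27) :
    e6c_LL l (e6c_e F a) (e6c_e F b) (e6c_e F c) = ((e6c_Lc l a b c : ℤ) : F) := by
  induction l with
  | nil => simp [e6c_LL, e6c_Lc]
  | cons t l ih =>
    obtain ⟨ht, hl'⟩ := e6c_idxOK_cons hl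
    have ih' := ih hl'
    simp only [e6c_LL, e6c_Lc, List.map_cons, List.sum_cons] at ih' ⊢
    rw [ih']
    rw [e6c_e_dec ht.1 ha, e6c_e_dec ht.1 hb, e6c_e_dec ht.1 hc, e6c_e_dec ht.2.1 ha,
      e6c_e_dec ht.2.1 hb, e6c_e_dec ht.2.1 hc, e6c_e_dec ht.2.2 ha, e6c_e_dec ht.2.2 hb,
      e6c_e_dec ht.2.2 hc]
    push_cast
    ring

theorem e6c_Lc_tri : ∀ t ∈ e6c_tri, e6c_Lc e6c_tri t.1 t.2.1 t.2.2.1 = t.2.2.2 := by decide +kernel

theorem e6c_tri_sign : ∀ t ∈ e6c_tri, t.2.2.2 = 1 ∨ t.2.2.2 = -1 := by decide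

end Ring

section Field

variable {F : Type*} [Field F]

theorem e6c_G0_le : e6c_G0 F ≤ E6univ F := by
  unfold e6c_G0
  rw [Subgroup.closure_le]
  rintro g ⟨r, t, -, rfl⟩
  exact e6c_X_mem r t

/-- diagonal elements of the stabilizer of the form. -/
def e6c_Diag (g : GL I27 F) : Prop :=
  g ∈ E6univ F ∧ ∀ i j, i ≠ j → (g : Matrix I27 I27 F) i j = 0

theorem e6c_Diag.mulVec_e {g : GL I27 F} (h : e6c_Diag g) (a : ℕ) :
    (g : Matrix I27 I27 F) *ᵥ e6c_e F a =
      (g : Matrix I27 I27 F) (e6c_dec a) (e6c_dec a) • e6c_e F a := by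
  funext i
  unfold e6c_e
  rw [Matrix.mulVec_single_one, Matrix.col_apply, Pi.smul_apply, Pi.single_apply, smul_eq_mul]
  by_cases hi : i = e6c_dec a
  · rw [if_pos hi, mul_one, hi]
  · rw [if_neg hi, mul_zero]
    exact h.2 i _ hi

/-- the product of the diagonal entries over a monomial of the form is `1`. -/
theorem e6c_Diag.tri {g : GL I27 F} (h : e6c_Diag g) {t : ℕ × ℕ × ℕ × ℤ} (ht : t ∈ e6c_tri) :
    (g : Matrix I27 I27 F) (e6c_dec t.1) (e6c_dec t.1) *
      (g : Matrix I27 I27 F) (e6c_dec t.2.1) (e6c_dec t.2.1) *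
      (g : Matrix I27 I27 F) (e6c_dec t.2.2.1) (e6c_dec t.2.2.1) = 1 := by
  have hidx := e6c_tri_idxOK t ht
  have h1 := e6c_L_inv h.1 (e6c_e F t.1) (e6c_e F t.2.1) (e6c_e F t.2.2.1)
  rw [h.mulVec_e, h.mulVec_e, h.mulVec_e] at h1
  unfold e6c_L at h1
  rw [e6c_LL_smul1, e6c_LL_smul2, e6c_LL_smul3, e6c_LL_basis e6c_tri_idxOK hidx.1 hidx.2.1 hidx.2.2,
    e6c_Lc_tri t ht] at h1
  have hk : ((t.2.2.2 : ℤ) : F) ≠ 0 := by
    rcases e6c_tri_sign t ht with h2 | h2 <;> rw [h2] <;> simp
  have h3 : ((g : Matrix I27 I27 F) (e6c_dec t.1) (e6c_dec t.1) *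
      (g : Matrix I27 I27 F) (e6c_dec t.2.1) (e6c_dec t.2.1) *
      (g : Matrix I27 I27 F) (e6c_dec t.2.2.1) (e6c_dec t.2.2.1)) * ((t.2.2.2 : ℤ) : F) =
      1 * ((t.2.2.2 : ℤ) : F) := by
    rw [one_mul]
    calc ((g : Matrix I27 I27 F) (e6c_dec t.1) (e6c_dec t.1) *
          (g : Matrix I27 I27 F) (e6c_dec t.2.1) (e6c_dec t.2.1) *
          (g : Matrix I27 I27 F) (e6c_dec t.2.2.1) (e6c_dec t.2.2.1)) * ((t.2.2.2 : ℤ) : F)
        = (g : Matrix I27 I27 F) (e6c_dec t.1) (e6c_dec t.1) *
          ((g : Matrix I27 I27 F) (e6c_dec t.2.1) (e6c_dec t.2.1) *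
          ((g : Matrix I27 I27 F) (e6c_dec t.2.2.1) (e6c_dec t.2.2.1) * ((t.2.2.2 : ℤ) : F))) := by
          ring
      _ = ((t.2.2.2 : ℤ) : F) := h1
  exact mul_right_cancel₀ hk h3

theorem e6c_Diag.ne_zero {g : GL I27 F} (h : e6c_Diag g) (j : I27) :
    (g : Matrix I27 I27 F) j j ≠ 0 := by
  intro h0
  have h1 : ((g⁻¹ : GL I27 F) : Matrix I27 I27 F) * (g : Matrix I27 I27 F) = 1 := by
    rw [← Units.val_mul, inv_mul_cancel, Units.val_one]
  have h2 := congrFun (congrFun h1 j) j
  rw [Matrix.mul_apply, Matrix.one_apply_eq] at h2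
  have h3 : ∀ k, ((g⁻¹ : GL I27 F) : Matrix I27 I27 F) j k * (g : Matrix I27 I27 F) k j = 0 := by
    intro k
    by_cases hk : k = j
    · rw [hk, h0, mul_zero]
    · rw [h.2 k j hk, mul_zero]
  simp only [h3, Finset.sum_const_zero] at h2
  exact zero_ne_one h2

/-- the multiplier of the torus element `h_r(t)` at the index `n`. -/
def e6c_mult (r : ℕ) (t : F) (n : ℕ) : F :=
  if e6c_pp r n then t else if e6c_pm r n then t⁻¹ else 1

theorem e6c_H_entry {r : ℕ} (hr : r < 72) {t : F} (ht : t ≠ 0) (x j : I27) :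
    ((e6c_H r t : GL I27 F) : Matrix I27 I27 F) x j =
      e6c_mult r t (e6c_enc x) * (if x = j then 1 else 0) := by
  have h := e6c_H_mulVec hr ht (Pi.single j 1) x
  rw [Matrix.mulVec_single_one, Matrix.col_apply, Pi.single_apply] at h
  exact h

theorem e6c_mul_H_entry (g : GL I27 F) {r : ℕ} (hr : r < 72) {t : F} (ht : t ≠ 0) (i j : I27) :
    ((g * e6c_H r t : GL I27 F) : Matrix I27 I27 F) i j =
      (g : Matrix I27 I27 F) i j * e6c_mult r t (e6c_enc j) := by
  rw [Units.val_mul, Matrix.mul_apply, Finset.sum_eq_single j]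
  · rw [e6c_H_entry hr ht, if_pos rfl, mul_one]
  · intro k _ hk
    rw [e6c_H_entry hr ht, if_neg hk, mul_zero, mul_zero]
  · intro h
    exact absurd (Finset.mem_univ j) h

theorem e6c_Diag.mul_H {g : GL I27 F} (h : e6c_Diag g) {r : ℕ} (hr : r < 72) {t : F} (ht : t ≠ 0) :
    e6c_Diag (g * e6c_H r t) := by
  refine ⟨(E6univ F).mul_mem h.1 (e6c_G0_le (e6c_H_mem_G0 r t)), fun i j hij => ?_⟩
  rw [e6c_mul_H_entry g hr ht, h.2 i j hij, zero_mul]

/-- the check of a sequence of pairs (index, root): the root moves the index and none of the earlier ones. -/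
def e6c_seqChk : List (ℕ × ℕ) → List ℕ → Bool
  | [], _ => true
  | (b, r) :: L, done =>
    decide (r < 72) && decide (b < 27) && (e6c_pp r b || e6c_pm r b) &&
      done.all (fun n => decide (n < 27) && !e6c_pp r n && !e6c_pm r n) && e6c_seqChk L (b :: done)

theorem e6c_seq_sound : ∀ (L : List (ℕ × ℕ)) (done : List ℕ), e6c_seqChk L done = true →
    ∀ g : GL I27 F, e6c_Diag g →
      (∀ n ∈ done, (g : Matrix I27 I27 F) (e6c_dec n) (e6c_dec n) = 1) →
      ∃ h ∈ e6c_G0 F, e6c_Diag (g * h) ∧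
        ∀ n ∈ L.map Prod.fst ++ done,
          ((g * h : GL I27 F) : Matrix I27 I27 F) (e6c_dec n) (e6c_dec n) = 1 := by
  intro L
  induction L with
  | nil =>
    intro done _ g hg hdone
    refine ⟨1, one_mem _, by rw [mul_one]; exact hg, fun n hn => ?_⟩
    rw [mul_one]
    exact hdone n (by simpa using hn)
  | cons p L ih =>
    intro done hchk g hg hdone
    obtain ⟨b, r⟩ := p
    simp only [e6c_seqChk, Bool.and_eq_true, decide_eq_true_eq, Bool.or_eq_true, List.all_eq_true,
      Bool.not_eq_true'] at hchk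
    obtain ⟨⟨⟨⟨hr, hb⟩, hmove⟩, hfix⟩, hrest⟩ := hchk
    -- the parameter of the torus element
    have hd0 := hg.ne_zero (e6c_dec b)
    obtain ⟨t, ht, hmul⟩ : ∃ t : F, t ≠ 0 ∧
        (g : Matrix I27 I27 F) (e6c_dec b) (e6c_dec b) * e6c_mult r t b = 1 := by
      by_cases hpp : e6c_pp r b = true
      · refine ⟨((g : Matrix I27 I27 F) (e6c_dec b) (e6c_dec b))⁻¹, inv_ne_zero hd0, ?_⟩
        unfold e6c_mult
        rw [if_pos hpp, mul_inv_cancel₀ hd0]
      · have hpm : e6c_pm r b = true := by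
          rcases hmove with h | h
          · exact absurd h hpp
          · exact h
        refine ⟨(g : Matrix I27 I27 F) (e6c_dec b) (e6c_dec b), hd0, ?_⟩
        unfold e6c_mult
        rw [if_neg hpp, if_pos hpm, mul_inv_cancel₀ hd0]
    have hg' := hg.mul_H hr ht
    have hdone' : ∀ n ∈ b :: done,
        ((g * e6c_H r t : GL I27 F) : Matrix I27 I27 F) (e6c_dec n) (e6c_dec n) = 1 := by
      intro n hn
      rw [e6c_mul_H_entry g hr ht]
      rcases List.mem_cons.mp hn with rfl | hn'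
      · rw [e6c_enc_dec _ hb]
        exact hmul
      · obtain ⟨⟨hn27, h1⟩, h2⟩ := hfix n hn'
        rw [e6c_enc_dec _ hn27]
        unfold e6c_mult
        rw [h1, h2]
        simp only [Bool.false_eq_true, if_false, mul_one]
        exact hdone n hn'
    obtain ⟨h, hhG, hD, hall⟩ := ih (b :: done) hrest (g * e6c_H r t) hg' hdone'
    refine ⟨e6c_H r t * h, (e6c_G0 F).mul_mem (e6c_H_mem_G0 r t) hhG, ?_, ?_⟩
    · rw [← mul_assoc]; exact hD
    · intro n hn
      rw [← mul_assoc]
      apply hall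
      simp only [List.map_cons, List.cons_append, List.mem_cons, List.mem_append, List.mem_map] at hn ⊢
      rcases hn with h' | h' | h'
      · exact Or.inr (Or.inl h')
      · exact Or.inl h'
      · exact Or.inr (Or.inr h')

/-- one round of "two indices of a monomial give the third". -/
def e6c_closeStep (S : List ℕ) : List ℕ :=
  S ++ e6c_tri.flatMap (fun t =>
    (if S.contains t.1 && S.contains t.2.1 then [t.2.2.1] else []) ++
    ((if S.contains t.1 && S.contains t.2.2.1 then [t.2.1] else []) ++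
    (if S.contains t.2.1 && S.contains t.2.2.1 then [t.1] else [])))

theorem e6c_close_sound {g : GL I27 F} (hg : e6c_Diag g) {S : List ℕ}
    (hS : ∀ n ∈ S, (g : Matrix I27 I27 F) (e6c_dec n) (e6c_dec n) = 1) :
    ∀ n ∈ e6c_closeStep S, (g : Matrix I27 I27 F) (e6c_dec n) (e6c_dec n) = 1 := by
  intro n hn
  unfold e6c_closeStep at hn
  rw [List.mem_append] at hn
  rcases hn with hn | hn
  · exact hS n hn
  · rw [List.mem_flatMap] at hn
    obtain ⟨t, ht, hn⟩ := hn
    have htri := hg.tri ht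
    simp only [List.mem_append] at hn
    rcases hn with hn | hn | hn
    · split_ifs at hn with hc
      · rw [Bool.and_eq_true, List.contains_iff_mem, List.contains_iff_mem] at hc
        rw [List.mem_singleton] at hn
        rw [hS _ hc.1, hS _ hc.2, one_mul, one_mul] at htri
        rw [hn]; exact htri
      · exact absurd hn (List.not_mem_nil)
    · split_ifs at hn with hc
      · rw [Bool.and_eq_true, List.contains_iff_mem, List.contains_iff_mem] at hc
        rw [List.mem_singleton] at hn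
        rw [hS _ hc.1, hS _ hc.2, one_mul, mul_one] at htri
        rw [hn]; exact htri
      · exact absurd hn (List.not_mem_nil)
    · split_ifs at hn with hc
      · rw [Bool.and_eq_true, List.contains_iff_mem, List.contains_iff_mem] at hc
        rw [List.mem_singleton] at hn
        rw [hS _ hc.1, hS _ hc.2, mul_one, mul_one] at htri
        rw [hn]; exact htri
      · exact absurd hn (List.not_mem_nil)

/-- the sequence of pairs (index, root) of the normalization. -/
def e6c_torSeq : List (ℕ × ℕ) := [(23, 1), (25, 0), (11, 12), (10, 8), (1, 2), (19, 5)]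

theorem e6c_torSeq_chk : e6c_seqChk e6c_torSeq [] = true := by decide +kernel

theorem e6c_torSeq_close : ∀ n < 27,
    n ∈ e6c_closeStep (e6c_closeStep (e6c_closeStep (e6c_closeStep (e6c_closeStep
      (e6c_torSeq.map Prod.fst ++ []))))) := by decide +kernel

/-- a diagonal element of the stabilizer of the form with all diagonal entries `1` is trivial. -/
theorem e6c_Diag.eq_one {g : GL I27 F} (h : e6c_Diag g)
    (h1 : ∀ n < 27, (g : Matrix I27 I27 F) (e6c_dec n) (e6c_dec n) = 1) : g = 1 := by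
  apply Units.ext
  ext i j
  rw [Units.val_one, Matrix.one_apply]
  by_cases hij : i = j
  · rw [if_pos hij, hij]
    have := h1 (e6c_enc j) (e6c_enc_lt j)
    rw [e6c_dec_enc] at this
    exact this
  · rw [if_neg hij]
    exact h.2 i j hij

/-- **the torus end-game**: a diagonal element of the stabilizer of the form is a product of root elements. -/
theorem e6c_diag_mem_G0 (g : GL I27 F) (hg : g ∈ E6univ F)
    (hd : ∀ i j, i ≠ j → (g : Matrix I27 I27 F) i j = 0) : g ∈ e6c_G0 F := by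
  have hD : e6c_Diag g := ⟨hg, hd⟩
  obtain ⟨h, hhG, hD', hall⟩ := e6c_seq_sound e6c_torSeq [] e6c_torSeq_chk g hD
    (fun n hn => absurd hn (List.not_mem_nil))
  have h1 : g * h = 1 := by
    apply hD'.eq_one
    intro n hn
    exact e6c_close_sound hD' (e6c_close_sound hD' (e6c_close_sound hD' (e6c_close_sound hD'
      (e6c_close_sound hD' hall)))) n (e6c_torSeq_close n hn)
  have h2 : g = h⁻¹ := eq_inv_of_mul_eq_one_left h1
  rw [h2]
  exact (e6c_G0 F).inv_mem hhG

end Field

end Cfsg.Agent.E6C
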