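import Cfsg.Agent.E6C.BBridge
import Cfsg.Agent.E6C.BCert
import Cfsg.Agent.E6C.TorEnd
import Cfsg.Agent.E6C.Phi

/-!
# S1084, assembly of parts A and B: `E6univ F = e6c_G0 F`

The full stabiliser of the cubic form is generated by the 72 families of root elements `e6c_X r t` (for a finite
field with at least three elements), hence it is the range of `e6c_phi`.
-/

set_option autoImplicit false

namespace Cfsg.Agent.E6C

open Cfsg Cfsg.Lie

variable {F : Type*} [Field F] [Fintype F]

theorem e6c_univ_le_G0 (hF : 3 ≤ Fintype.card F) : E6univ F ≤ e6c_G0 F := by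
  have h := e6cb_partB hF (e6c_roots (fun r t _ => e6c_X_mem r t))
    (fun g hg hd => by rw [e6c_roots_N]; exact e6c_diag_mem_G0 g hg hd)
  rwa [e6c_roots_N] at h

theorem e6c_univ_eq_G0 (hF : 3 ≤ Fintype.card F) : E6univ F = e6c_G0 F :=
  le_antisymm (e6c_univ_le_G0 hF) e6c_G0_le

theorem e6c_phi_range_univ (hF : 3 ≤ Fintype.card F) : (e6c_phi (F := F)).range = E6univ F := by
  rw [e6c_phi_range, e6c_univ_eq_G0 hF]

end Cfsg.Agent.E6C
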