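import Mathlib
import Cfsg.Agent.E6C.Phi
import Cfsg.Agent.E6C.Inv

set_option autoImplicit false
set_option linter.unusedSectionVars false
set_option linter.unusedVariables false

/-!
# S1084: two root elements which do not commute (file `Cfsg/Agent/E6C/NonComm.lean`, helper7)

`e6c_not_comm : ∃ x y : ↥(E6univ F), x * y ≠ y * x` (the hypothesis `hna` of part C): `x = X_0(1)`, `y = X_46(1)`, whose commutator is `X_1(-1) ≠ 1`.
-/

namespace Cfsg.Agent.E6C

open Cfsg Cfsg.Lie Matrix Cfsg.Agent.Helper7.Chev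

variable {F : Type*} [Field F]

set_option maxRecDepth 1000000 in
theorem e6c_commTerms_0_46 : chevE6.commTerms 0 46 = [(1, 1, 1, 1)] := by decide +kernel

theorem e6c_step_1_0 : e6c_step 1 0 = some (6, -1) := by decide

theorem e6c_X_ne_one_1 {u : F} (hu : u ≠ 0) : e6c_X 1 u ≠ 1 := by
  intro h
  have h1 := congrArg (fun g : GL I27 F => (g : Matrix I27 I27 F) (e6c_dec 6) (e6c_dec 0)) h
  simp only [e6c_X_coe, Units.val_one] at h1
  unfold e6c_XM e6c_E at h1
  rw [Matrix.add_apply, Matrix.smul_apply, e6c_spm_apply, e6c_enc_dec 0 (by norm_num), e6c_enc_dec 6 (by norm_num),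
    e6c_step_1_0] at h1
  have h2 : e6c_dec 6 ≠ e6c_dec 0 := by decide
  rw [Matrix.one_apply_ne h2] at h1
  simp [e6c_coef] at h1
  exact hu h1

theorem e6c_X_not_comm : e6c_X 0 (1 : F) * e6c_X 46 1 ≠ e6c_X 46 1 * e6c_X 0 1 := by
  intro h
  have hc := e6c_X_comm (F := F) (r := 0) (s := 46) (by norm_num) (by norm_num) (by norm_num) (by norm_num) 1 1
  unfold ChevalleyDatum.commWord at hc
  rw [e6c_commTerms_0_46] at hc
  simp only [List.map_cons, List.map_nil, List.prod_cons, List.prod_nil, mul_one] at hc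
  have h3 : (e6c_X 46 (1 : F))⁻¹ * (e6c_X 0 1)⁻¹ * e6c_X 46 1 * e6c_X 0 1 = 1 := by
    rw [mul_assoc, ← h]
    group
  rw [h3] at hc
  exact e6c_X_ne_one_1 (F := F) (u := ((1 : ℤ) : F) * (-1) ^ 1 * 1 ^ 1) (by norm_num) hc.symm

/-- the hypothesis `hna` of part C. -/
theorem e6c_not_comm : ∃ x y : ↥(E6univ F), x * y ≠ y * x := by
  refine ⟨⟨e6c_X 0 1, e6c_X_mem 0 1⟩, ⟨e6c_X 46 1, e6c_X_mem 46 1⟩, ?_⟩
  intro h
  exact e6c_X_not_comm (F := F) (congrArg Subtype.val h)

end Cfsg.Agent.E6C
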